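import Groth.Agent.Lib.Goren.InjDim
import Groth.Agent.Lib.Depth.CM
import Groth.Agent.Lib.Depth.Vanish
import Groth.Agent.Lib.InjHull.Matlis
import Groth.Prelude.Def_CAlg

/-!
Gorenstein local rings: regular rings are Gorenstein, Gorenstein rings are Cohen–Macaulay, quotients
by regular elements, the finite injective dimension criterion.
-/

universe u v

open CategoryTheory Abelian IsLocalRing InjHull Pointwise

namespace Groth.Agent.Lib.Goren.Basic

open Groth.Agent.Lib.Goren.InjDim

variable {A : Type u} [CommRing A]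

theorem exists_hasInjectiveDimensionLT_iff_ext [IsNoetherianRing A] [IsLocalRing A]
    (M : ModuleCat.{u} A) [Module.Finite A M] :
    (∃ n : ℕ, HasInjectiveDimensionLT M n) ↔ ∃ N : ℕ, ∀ i : ℕ, N ≤ i →
      Subsingleton (Ext (ModuleCat.of A (ResidueField A)) M i) :=
  ⟨fun ⟨n, _⟩ => ⟨n, fun i hi => HasInjectiveDimensionLT.subsingleton M n i hi _⟩,
    fun ⟨N, h⟩ => ⟨N + 1, hasInjectiveDimensionLT_of_ext M N fun i hi => h i (by omega)⟩⟩

theorem isGorensteinLocalRing_iff [IsNoetherianRing A] [IsLocalRing A] :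
    LocCoh.IsGorensteinLocalRing A ↔
      ∃ n : ℕ, HasInjectiveDimensionLT (ModuleCat.of A A) n :=
  ⟨fun h => h.exists_hasInjectiveDimensionLT, fun h => { exists_hasInjectiveDimensionLT := h }⟩

theorem isGorensteinLocalRing_iff_ext [IsNoetherianRing A] [IsLocalRing A] :
    LocCoh.IsGorensteinLocalRing A ↔ ∃ N : ℕ, ∀ i : ℕ, N ≤ i →
      Subsingleton (Ext (ModuleCat.of A (ResidueField A)) (ModuleCat.of A A) i) :=
  isGorensteinLocalRing_iff.trans (exists_hasInjectiveDimensionLT_iff_ext (ModuleCat.of A A))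

theorem isGorensteinLocalRing_of_isRegular (A : Type u) [CommRing A] [IsRegularLocalRing A] :
    LocCoh.IsGorensteinLocalRing A := by
  obtain ⟨d, hd⟩ : ∃ d : ℕ, ringKrullDim A = d :=
    ⟨_, (IsRegularLocalRing.spanFinrank_maximalIdeal (R := A)).symm⟩
  refine isGorensteinLocalRing_iff.mpr ⟨d + 1, hasInjectiveDimensionLT_of_ext _ d fun i hi => ?_⟩
  have := H22.GlobalDim.hasProjectiveDimensionLT_regular (R := A) d hd (ResidueField A)
  exact HasProjectiveDimensionLT.subsingleton _ (d + 1) i hi _

theorem mem_annihilator_residueField [IsLocalRing A] {x : A} (hx : x ∈ maximalIdeal A) :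
    x ∈ Module.annihilator A (ResidueField A) :=
  Module.mem_annihilator.mpr fun r => by
    rw [Algebra.smul_def, ResidueField.algebraMap_eq, (residue_eq_zero_iff x).mpr hx, zero_mul]

theorem isLocalRing_quotient_span [IsLocalRing A] {f : A} (hf : f ∈ maximalIdeal A) :
    IsLocalRing (A ⧸ Ideal.span {f}) := by
  have : Nontrivial (A ⧸ Ideal.span {f}) :=
    Ideal.Quotient.nontrivial_iff.mpr fun h => hf (Ideal.span_singleton_eq_top.mp h)
  exact IsLocalRing.of_surjective' _ Ideal.Quotient.mk_surjective

/-- If `A ⧸ f` has injective dimension `< n` then `A` has injective dimension `≤ n`. -/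
theorem hasInjectiveDimensionLT_of_quotient [IsNoetherianRing A] [IsLocalRing A] {f : A}
    (hf : f ∈ maximalIdeal A) (hreg : IsSMulRegular A f) (n : ℕ)
    (h : HasInjectiveDimensionLT (ModuleCat.of (A ⧸ Ideal.span {f}) (A ⧸ Ideal.span {f})) n) :
    HasInjectiveDimensionLT (ModuleCat.of A A) (n + 1) := by
  have hQ := hasInjectiveDimensionLT_restrict f hreg n (A ⧸ Ideal.span {f}) h
  refine hasInjectiveDimensionLT_of_ext _ n fun i hi => subsingleton_of_forall_eq 0 fun α => ?_
  let e : (A ⧸ Ideal.span {f}) ≃ₗ[A] QuotSMulTop f A := Submodule.quotEquivOfEq _ _ (by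
    rw [← Submodule.ideal_span_singleton_smul, smul_eq_mul, Ideal.mul_top])
  have h3 : Subsingleton (Ext (ModuleCat.of A (ResidueField A))
      ((ModuleCat.of A A).smulShortComplex f).X₃ i) := by
    have h' := hasInjectiveDimensionLT_of_iso e.toModuleIso (n + 1)
    exact HasInjectiveDimensionLT.subsingleton (ModuleCat.of A (QuotSMulTop f A)) (n + 1) i hi _
  have hreg' : IsSMulRegular (ModuleCat.of A A) f := hreg
  obtain ⟨β, hβ⟩ := Ext.covariant_sequence_exact₂ (ModuleCat.of A (ResidueField A))
    hreg'.smulShortComplex_shortExact α (h3.elim _ _)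
  rw [ModuleCat.smulShortComplex_f_eq_smul_id] at hβ
  exact hβ.symm.trans ((Ext.smul_eq_comp_mk₀ β f).symm.trans
    (Depth.Ext.smul_eq_zero_of_annihilator_src (mem_annihilator_residueField hf) β))

theorem isGorensteinLocalRing_quotient_iff [IsNoetherianRing A] [IsLocalRing A] {f : A}
    (hf : f ∈ maximalIdeal A) (hreg : IsSMulRegular A f) :
    LocCoh.IsGorensteinLocalRing A ↔ LocCoh.IsGorensteinLocalRing (A ⧸ Ideal.span {f}) := by
  have := isLocalRing_quotient_span hf
  rw [isGorensteinLocalRing_iff, isGorensteinLocalRing_iff]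
  constructor
  · rintro ⟨n, hn⟩
    exact ⟨n, hasInjectiveDimensionLT_quotient f hreg n
      (hasInjectiveDimensionLT_of_ge _ n (n + 1) n.le_succ)⟩
  · rintro ⟨n, hn⟩
    exact ⟨n + 1, hasInjectiveDimensionLT_of_quotient hf hreg n hn⟩

theorem exists_residueField_embedding [IsNoetherianRing A] [IsLocalRing A]
    (h : maximalIdeal A ∈ associatedPrimes A A) :
    ∃ φ : ResidueField A →ₗ[A] A, Function.Injective φ := by
  obtain ⟨hp, x, hx⟩ := isAssociatedPrime_iff.mp h
  have hxne : x ≠ 0 := fun h0 => hp.ne_top (by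
    rw [hx, h0]
    simp)
  let φ : ResidueField A →ₗ[A] A := Submodule.liftQ (maximalIdeal A) (LinearMap.toSpanSingleton A A x)
    (fun r hr => by
      rw [hx, Submodule.mem_colon_singleton, Submodule.mem_bot] at hr
      simpa using hr)
  have : IsSimpleModule A (ResidueField A) :=
    InjHull.Matlis.isSimpleModule_quotient (m := maximalIdeal A)
  refine ⟨φ, (LinearMap.injective_or_eq_zero φ).resolve_right fun h0 => hxne ?_⟩
  have h1 : φ (residue A 1) = x := by
    show LinearMap.toSpanSingleton A A x 1 = x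
    simp
  rw [← h1, h0, LinearMap.zero_apply]

/-- In depth zero, finite injective dimension forces injectivity. -/
theorem injective_of_depth_eq_zero [IsNoetherianRing A] [IsLocalRing A]
    (hd : LocCoh.depth A A = 0) {n : ℕ} (hn : HasInjectiveDimensionLT (ModuleCat.of A A) n) :
    HasInjectiveDimensionLT (ModuleCat.of A A) 1 := by
  obtain ⟨φ, hφ⟩ := exists_residueField_embedding ((Depth.Assoc.depth_eq_zero_iff (M := A)).mp hd)
  have key : ∀ j : ℕ, HasInjectiveDimensionLT (ModuleCat.of A A) (j + 2) →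
      HasInjectiveDimensionLT (ModuleCat.of A A) (j + 1) := by
    intro j hj
    refine hasInjectiveDimensionLT_of_ext _ j fun i hi => ?_
    rcases Nat.lt_or_ge i (j + 2) with hlt | hge
    swap
    · exact HasInjectiveDimensionLT.subsingleton _ (j + 2) i hge _
    obtain rfl : i = j + 1 := by omega
    let S : ShortComplex (ModuleCat.{u} A) :=
      ModuleCat.shortComplexOfCompEqZero φ (LinearMap.range φ).mkQ
        (LinearMap.exact_map_mkQ_range φ).linearMap_comp_eq_zero
    have hS : S.ShortExact := ModuleCat.shortComplex_shortExact S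
      (LinearMap.exact_map_mkQ_range φ) hφ (Submodule.mkQ_surjective _)
    refine subsingleton_of_forall_eq 0 fun α => ?_
    obtain ⟨β, hβ⟩ := Ext.contravariant_sequence_exact₁ hS (ModuleCat.of A A) α (n₁ := j + 2)
      (by omega) ((HasInjectiveDimensionLT.subsingleton (ModuleCat.of A A) (j + 2) (j + 2) le_rfl _).elim _ _)
    have : Projective S.X₂ := inferInstanceAs (Projective (ModuleCat.of A A))
    rw [← hβ, Ext.eq_zero_of_projective β, Ext.comp_zero]
  have : ∀ j : ℕ, HasInjectiveDimensionLT (ModuleCat.of A A) (j + 1) →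
      HasInjectiveDimensionLT (ModuleCat.of A A) 1 := by
    intro j
    induction j with
    | zero => exact id
    | succ j ih => exact fun h => ih (key j h)
  exact this n (hasInjectiveDimensionLT_of_ge _ n (n + 1) n.le_succ)

theorem isArtinianRing_of_injective [IsNoetherianRing A] [IsLocalRing A]
    (hd : LocCoh.depth A A = 0) (hinj : Module.Injective A A) : IsArtinianRing A := by
  obtain ⟨φ, hφ⟩ := exists_residueField_embedding ((Depth.Assoc.depth_eq_zero_iff (M := A)).mp hd)
  have hind : IsIndecomposable A A := by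
    refine ⟨inferInstance, fun N N' hc => ?_⟩
    obtain ⟨a, ha, b, hb, hab⟩ := Submodule.mem_sup.mp
      (show (1 : A) ∈ N ⊔ N' by rw [hc.sup_eq_top]; trivial)
    rcases IsLocalRing.isUnit_or_isUnit_of_add_one hab with hu | hu
    · exact Or.inr (hc.disjoint.symm.eq_bot_of_le (by rw [Ideal.eq_top_of_isUnit_mem N ha hu]; exact le_top))
    · exact Or.inl (hc.disjoint.eq_bot_of_le (by rw [Ideal.eq_top_of_isUnit_mem N' hb hu]; exact le_top))
  have hess : IsEssentialInj φ := ⟨hφ, fun N hN => InjHull.Basic.inf_ne_bot_of_indecomposable hind hinj hN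
    fun h => by
      rw [LinearMap.range_eq_bot] at h
      subst h
      exact not_subsingleton (ResidueField A) ⟨fun a b => hφ rfl⟩⟩
  exact InjHull.Matlis.isArtinian (m := maximalIdeal A) hess

theorem eq_succ_or_zero_of_hasInjectiveDimensionLT [IsLocalRing A] {n : ℕ}
    (h : HasInjectiveDimensionLT (ModuleCat.of A A) n) : 0 < n := by
  rcases Nat.eq_zero_or_pos n with rfl | hpos
  · exact absurd (ModuleCat.subsingleton_of_isZero
      (isZero_of_hasInjectiveDimensionLT_zero (X := ModuleCat.of A A))) (not_subsingleton A)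
  · exact hpos

theorem main_aux : ∀ (d : ℕ) (A : Type u) [CommRing A] [IsNoetherianRing A] [IsLocalRing A],
    LocCoh.depth A A = d → ∀ n : ℕ, HasInjectiveDimensionLT (ModuleCat.of A A) n →
      LocCoh.IsCohenMacaulayLocalRing A ∧ HasInjectiveDimensionLT (ModuleCat.of A A) (d + 1) ∧
        d < n := by
  intro d
  induction d with
  | zero =>
    intro A _ _ _ hd n hn
    have h1 := injective_of_depth_eq_zero (by simpa using hd) hn
    have := isArtinianRing_of_injective (by simpa using hd)
      ((Module.injective_iff_injective_object A A).mpr inferInstance)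
    refine ⟨Depth.CM.isCohenMacaulayLocalRing_iff.mpr ?_, h1,
      eq_succ_or_zero_of_hasInjectiveDimensionLT hn⟩
    have hdim : ringKrullDim A ≤ 0 :=
      Ring.krullDimLE_iff.mp (isArtinianRing_iff_krullDimLE_zero.mp inferInstance)
    exact hdim.trans (WithBot.coe_le_coe.mpr bot_le)
  | succ d ih =>
    intro A _ _ _ hd n hn
    obtain ⟨x, hx, hreg, -, hdx⟩ := Depth.Local.exists_regular_of_idealDepth_eq_succ hd
    have := isLocalRing_quotient_span hx
    obtain ⟨n, rfl⟩ := Nat.exists_eq_succ_of_ne_zero (eq_succ_or_zero_of_hasInjectiveDimensionLT hn).ne'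
    have hq := hasInjectiveDimensionLT_quotient x hreg n hn
    have hdq : LocCoh.depth (A ⧸ Ideal.span {x}) (A ⧸ Ideal.span {x}) = d := by
      rw [← Depth.CM.depth_quotient_eq, Depth.Basic.depth_congr
        (Submodule.quotEquivOfEq (Ideal.span {x}) (x • ⊤) (by
          rw [← Submodule.ideal_span_singleton_smul, smul_eq_mul, Ideal.mul_top]))]
      exact hdx
    obtain ⟨h1, h2, h3⟩ := ih (A ⧸ Ideal.span {x}) hdq n hq
    exact ⟨(Depth.CM.isCohenMacaulayLocalRing_quotient_span_singleton_iff hx hreg).mp h1,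
      hasInjectiveDimensionLT_of_quotient hx hreg (d + 1) h2, by omega⟩

/-- A Noetherian local ring of finite injective dimension is Cohen–Macaulay of dimension `d` and
injective dimension `d`. -/
theorem exists_dim [IsNoetherianRing A] [IsLocalRing A] {n : ℕ}
    (hn : HasInjectiveDimensionLT (ModuleCat.of A A) n) :
    ∃ d : ℕ, ringKrullDim A = d ∧ d < n ∧ LocCoh.IsCohenMacaulayLocalRing A ∧
      HasInjectiveDimensionLT (ModuleCat.of A A) (d + 1) := by
  obtain ⟨d, hd⟩ := ENat.ne_top_iff_exists.mp (Depth.Assoc.depth_ne_top (R := A) A)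
  obtain ⟨h1, h2, h3⟩ := main_aux d A hd.symm n hn
  refine ⟨d, ?_, h3, h1, h2⟩
  rw [Depth.CM.ringKrullDim_eq_depth, ← hd]
  rfl

end Groth.Agent.Lib.Goren.Basic
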