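import Groth.Agent.Lib.Goren.Rings
import Groth.Agent.Lib.Wiebe.AcycRegular
import Groth.Agent.Lib.Wiebe.Bridge
import Mathlib.RingTheory.KrullDimension.Regular
import Mathlib.RingTheory.Ideal.KrullsHeightTheorem

/-!
Quotients of Gorenstein rings by regular sequences; fibres of flat complete intersections.
-/

universe u

open IsLocalRing RingTheory.Sequence TensorProduct

namespace Groth.Agent.Lib.Goren.LCI

open Groth.Agent.Lib.Goren.Basic Groth.Agent.Lib.Goren.Flat

theorem exists_nat_dim (R : Type u) [CommRing R] [IsLocalRing R] [IsNoetherianRing R] :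
    ∃ d : ℕ, ringKrullDim R = d := by
  obtain ⟨d, hd⟩ := ENat.ne_top_iff_exists.1 (Ideal.height_ne_top
    (maximalIdeal.isMaximal R).ne_top)
  exact ⟨d, by rw [← maximalIdeal_height_eq_ringKrullDim, ← hd]; rfl⟩

/-- A Gorenstein local ring cut down by `n` equations to codimension `n` stays Gorenstein. -/
theorem gorenstein_quotient_of_dim : ∀ (n : ℕ) (R : Type u) [CommRing R]
    [LocCoh.IsGorensteinLocalRing R] (l : List R), l.length = n → (∀ x ∈ l, x ∈ maximalIdeal R) →
    ringKrullDim (R ⧸ Ideal.ofList l) + n ≤ ringKrullDim R →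
    LocCoh.IsGorensteinLocalRing (R ⧸ Ideal.ofList l) := by
  intro n
  induction n with
  | zero =>
    intro R _ _ l hl _ _
    obtain rfl := List.length_eq_zero_iff.1 hl
    exact isGorensteinLocalRing_ringEquiv
      ((RingEquiv.quotientBot R).symm.trans (Ideal.quotEquivOfEq Ideal.ofList_nil.symm))
  | succ n ih =>
    intro R _ hR l hl hmem hdim
    obtain _ | ⟨x, l'⟩ := l
    · simp at hl
    simp only [List.length_cons, Nat.add_right_cancel_iff] at hl
    have hx : x ∈ maximalIdeal R := hmem x (by simp)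
    let q := R ⧸ Ideal.span {x}
    have := isLocalRing_quotient_span hx
    let l₁ : List q := l'.map (Ideal.Quotient.mk (Ideal.span {x}))
    have hl₁ : ∀ y ∈ l₁, y ∈ maximalIdeal q := by
      intro y hy
      obtain ⟨z, hz, rfl⟩ := List.mem_map.1 hy
      have : IsLocalHom (Ideal.Quotient.mk (Ideal.span {x})) :=
        IsLocalHom.of_surjective _ Ideal.Quotient.mk_surjective
      exact map_nonunit _ z (hmem z (List.mem_cons_of_mem _ hz))
    let e : (q ⧸ Ideal.ofList l₁) ≃+* (R ⧸ Ideal.ofList (x :: l')) :=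
      (Ideal.quotEquivOfEq (Ideal.map_ofList _ l').symm).trans
        ((DoubleQuot.quotQuotEquivQuotSup (Ideal.span {x}) (Ideal.ofList l')).trans
          (Ideal.quotEquivOfEq (Ideal.ofList_cons x l').symm))
    have : Nontrivial (q ⧸ Ideal.ofList l₁) := Ideal.Quotient.nontrivial_iff.mpr fun h =>
      (maximalIdeal.isMaximal q).ne_top (top_le_iff.1 (h ▸ Ideal.span_le.2 hl₁))
    have : IsLocalRing (q ⧸ Ideal.ofList l₁) :=
      IsLocalRing.of_surjective' _ Ideal.Quotient.mk_surjective
    obtain ⟨dR, hdR⟩ := exists_nat_dim R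
    obtain ⟨dq, hdq⟩ := exists_nat_dim q
    obtain ⟨d₁, hd₁⟩ := exists_nat_dim (q ⧸ Ideal.ofList l₁)
    have h1 : dq ≤ d₁ + n := by
      classical
      have h := ringKrullDim_le_ringKrullDim_quotient_add_card l₁.toFinset (by
        intro y hy
        rw [SetLike.mem_coe, IsLocalRing.ringJacobson_eq_maximalIdeal]
        exact hl₁ y (List.mem_toFinset.1 (Finset.mem_coe.1 hy)))
      rw [show Ideal.span (l₁.toFinset : Set q) = Ideal.ofList l₁ by simp [Ideal.ofList], hd₁, hdq] at h
      have h' : dq ≤ d₁ + l₁.toFinset.card := by exact_mod_cast h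
      have := List.toFinset_card_le l₁
      have hlen : l₁.length = n := by simp [l₁, hl]
      omega
    rw [← ringKrullDim_eq_of_ringEquiv e, hd₁, hdR] at hdim
    have h2 : d₁ + (n + 1) ≤ dR := by exact_mod_cast hdim
    have hreg : IsSMulRegular R x := by
      by_contra hnr
      have hmemA : x ∈ ⋃ p ∈ associatedPrimes R R, (p : Set R) := by
        rw [biUnion_associatedPrimes_eq_compl_regular R R]; exact hnr
      simp only [Set.mem_iUnion, SetLike.mem_coe] at hmemA
      obtain ⟨p, hp, hxp⟩ := hmemA
      obtain ⟨k, hk⟩ := hR.exists_hasInjectiveDimensionLT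
      obtain ⟨-, -, -, hCM, -⟩ := exists_dim hk
      have h3 := Depth.CM.ringKrullDim_quotient_eq (Depth.CM.isCohenMacaulayModule_self (h := hCM)) hp
      rw [Module.supportDim_self_eq_ringKrullDim, hdR] at h3
      have h4 := ringKrullDim_le_of_surjective
        (Ideal.Quotient.factor ((Ideal.span_singleton_le_iff_mem _).2 hxp))
        (Ideal.Quotient.factor_surjective _)
      rw [h3, show ringKrullDim (R ⧸ Ideal.span {x}) = dq from hdq] at h4
      have : dR ≤ dq := by exact_mod_cast h4
      omega
    have := (isGorensteinLocalRing_quotient_iff hx hreg).1 hR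
    have h5 := ringKrullDim_quotient_span_singleton_succ_eq_ringKrullDim_of_mem_jacobson hreg
      (by rwa [IsLocalRing.ringJacobson_eq_maximalIdeal])
    rw [show ringKrullDim (R ⧸ Ideal.span {x}) = dq from hdq, hdR] at h5
    have h6 : dq + 1 = dR := by exact_mod_cast h5
    have := ih q l₁ (by simp [l₁, hl]) hl₁ (by
      rw [hd₁, hdq]
      exact_mod_cast (show d₁ + n ≤ dq by omega))
    exact isGorensteinLocalRing_ringEquiv e

/-- The quotient of a Gorenstein local ring by a regular sequence. -/
theorem gorenstein_quotient_of_isWeaklyRegular (R : Type u) [CommRing R]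
    [LocCoh.IsGorensteinLocalRing R] (l : List R) (hmem : ∀ x ∈ l, x ∈ maximalIdeal R)
    (hl : IsWeaklyRegular R l) : LocCoh.IsGorensteinLocalRing (R ⧸ Ideal.ofList l) := by
  refine gorenstein_quotient_of_dim l.length R l rfl hmem (le_of_eq ?_)
  exact ringKrullDim_add_length_eq_ringKrullDim_of_isRegular l
    ((IsLocalRing.isRegular_iff_isWeaklyRegular_of_subset_maximalIdeal hmem).2 hl)

end Groth.Agent.Lib.Goren.LCI
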