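import Groth.Agent.Lib.Goren.LCI
import Groth.Agent.Lib.Wiebe.AcycBaseChange
import Groth.Prelude.Def_LCI2
import Mathlib.RingTheory.Localization.BaseChange
import Mathlib.RingTheory.Flat.Localization
import Mathlib.RingTheory.TensorProduct.MvPolynomial
import Mathlib.LinearAlgebra.TensorProduct.RightExactness

/-!
Fibres of flat local complete intersections are Gorenstein.
-/

universe u

open IsLocalRing RingTheory.Sequence TensorProduct

namespace Groth.Agent.Lib.Goren.LCIFibre

open Groth.Agent.Lib.Goren.Basic Groth.Agent.Lib.Goren.Flat Groth.Agent.Lib.Goren.Rings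

theorem localRingHom_surjective_ker {T F : Type u} [CommRing T] [CommRing F] (π : T →+* F)
    (hπ : Function.Surjective π) (q : Ideal F) [q.IsPrime] :
    Function.Surjective (Localization.localRingHom (q.comap π) q π rfl) ∧
      RingHom.ker (Localization.localRingHom (q.comap π) q π rfl) =
        (RingHom.ker π).map (algebraMap T (Localization.AtPrime (q.comap π))) := by
  constructor
  · intro y
    obtain ⟨a, s, rfl⟩ := IsLocalization.exists_mk'_eq q.primeCompl y
    obtain ⟨a, rfl⟩ := hπ a
    obtain ⟨s', hs'⟩ := hπ s.1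
    have hs'' : s' ∈ (q.comap π).primeCompl := fun h => s.2 (hs' ▸ h)
    refine ⟨IsLocalization.mk' _ a (⟨s', hs''⟩ : (q.comap π).primeCompl), ?_⟩
    rw [Localization.localRingHom_mk']
    exact IsLocalization.mk'_eq_of_eq (by simp [hs'])
  · refine le_antisymm (fun y hy => ?_) (Ideal.map_le_iff_le_comap.2 fun t ht => ?_)
    · obtain ⟨a, s, rfl⟩ := IsLocalization.exists_mk'_eq (q.comap π).primeCompl y
      rw [RingHom.mem_ker, Localization.localRingHom_mk', IsLocalization.mk'_eq_zero_iff] at hy
      obtain ⟨⟨c, hc⟩, hca⟩ := hy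
      obtain ⟨c', rfl⟩ := hπ c
      have hc' : c' ∈ (q.comap π).primeCompl := hc
      have hk : c' * a ∈ RingHom.ker π := by rw [RingHom.mem_ker, map_mul]; exact hca
      have := Ideal.mem_map_of_mem (algebraMap T (Localization.AtPrime (q.comap π))) hk
      rw [map_mul] at this
      rw [IsLocalization.mk'_eq_mul_mk'_one]
      exact Ideal.mul_mem_right _ _ ((Ideal.unit_mul_mem_iff_mem _
        (IsLocalization.map_units _ (⟨c', hc'⟩ : (q.comap π).primeCompl))).1 this)
    · rw [Ideal.mem_comap, RingHom.mem_ker, Localization.localRingHom_to_map,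
        RingHom.mem_ker.1 ht, map_zero]

theorem gorenstein_fibre {A B : Type u} [CommRing A] [CommRing B] [Algebra A B] [Module.Flat A B]
    (hl : LCI.IsLCI A B) (p : Ideal A) [p.IsPrime] : LocCoh.IsGorensteinRing (p.Fiber B) := by
  obtain ⟨-, N, φ, hφ, hJ⟩ := hl
  let P := MvPolynomial (Fin N) A
  let κ := p.ResidueField
  let T := κ ⊗[A] P
  let π : T →ₐ[κ] p.Fiber B := Algebra.TensorProduct.map (AlgHom.id κ κ) φ
  have hπ : Function.Surjective π :=
    LinearMap.lTensor_surjective κ (g := φ.toLinearMap) hφ
  have hker : RingHom.ker π.toRingHom = (RingHom.ker φ.toRingHom).map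
      (Algebra.TensorProduct.includeRight : P →ₐ[A] T) := by
    have := Algebra.TensorProduct.lTensor_ker (A := κ) φ hφ
    exact this
  have hTnoeth : IsNoetherianRing T := isNoetherianRing_of_ringEquiv (MvPolynomial (Fin N) κ)
    (MvPolynomial.algebraTensorAlgEquiv A κ).symm.toRingEquiv
  have : IsNoetherianRing (p.Fiber B) := isNoetherianRing_of_surjective T _ π.toRingHom hπ
  have : LocCoh.IsGorensteinRing κ := isGorensteinRing_of_isRegularRing κ
  have := isGorensteinRing_mvPolynomial κ N
  have hT : LocCoh.IsGorensteinRing T :=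
    isGorensteinRing_of_ringEquiv (MvPolynomial.algebraTensorAlgEquiv A κ).symm.toRingEquiv
  refine { isGorensteinLocalRing_localization := fun qF _ => ?_ }
  let Q := qF.comap π.toRingHom
  let 𝔭 : PrimeSpectrum P :=
    ⟨Q.comap (Algebra.TensorProduct.includeRight : P →ₐ[A] T).toRingHom, inferInstance⟩
  have hJQ : RingHom.ker π.toRingHom ≤ Q := fun x hx => by
    rw [Ideal.mem_comap, RingHom.mem_ker.1 hx]
    exact zero_mem _
  obtain ⟨g, hg, l, hreg, hspan⟩ := hJ 𝔭 fun x hx =>
    hJQ (hker ▸ Ideal.mem_map_of_mem _ hx)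
  let R := Localization.Away g
  let f : Fin l.length → R := fun i => l.get i
  have hfR : Wiebe.Link.Acyc f :=
    Wiebe.Bridge.acyc_of_isKoszulRegularSeq f (by rwa [List.ofFn_get])
  have hfspan : Ideal.span (Set.range f) = (RingHom.ker φ.toRingHom).map (algebraMap P R) := by
    rw [hspan]
    congr 1
    ext x
    exact List.mem_iff_get.symm
  have : Module.Flat P R := IsLocalization.flat R (Submonoid.powers g)
  have : Module.Flat A R := Module.Flat.trans A P R
  have : Module.Flat A (P ⧸ RingHom.ker φ.toRingHom) :=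
    Module.Flat.of_linearEquiv (Ideal.quotientKerAlgEquivOfSurjective hφ).toLinearEquiv
  have : Module.Flat A (R ⧸ Ideal.span (Set.range f)) := by
    rw [hfspan]
    have : Module.Flat (P ⧸ RingHom.ker φ.toRingHom)
        (R ⧸ (RingHom.ker φ.toRingHom).map (algebraMap P R)) :=
      IsLocalization.flat _ (Algebra.algebraMapSubmonoid (P ⧸ RingHom.ker φ.toRingHom) (Submonoid.powers g))
    have : IsScalarTower A (P ⧸ RingHom.ker φ.toRingHom)
        (R ⧸ (RingHom.ker φ.toRingHom).map (algebraMap P R)) := ⟨fun a x y => by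
      obtain ⟨x, rfl⟩ := Ideal.Quotient.mk_surjective x
      obtain ⟨y, rfl⟩ := Ideal.Quotient.mk_surjective y
      have h1 : (a • Ideal.Quotient.mk (RingHom.ker φ.toRingHom) x) =
          Ideal.Quotient.mk (RingHom.ker φ.toRingHom) (a • x) := rfl
      have h2 : (a • Ideal.Quotient.mk ((RingHom.ker φ.toRingHom).map (algebraMap P R)) (algebraMap P R x * y)) =
          Ideal.Quotient.mk _ (a • (algebraMap P R x * y)) := rfl
      have h3 : ∀ z : P, Ideal.Quotient.mk (RingHom.ker φ.toRingHom) z •
          Ideal.Quotient.mk ((RingHom.ker φ.toRingHom).map (algebraMap P R)) y =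
            Ideal.Quotient.mk _ (algebraMap P R z * y) := fun z => by
        rw [Algebra.smul_def, Ideal.Quotient.algebraMap_quotient_map_quotient, ← map_mul]
      rw [h1, h3, h3, h2, Algebra.smul_def a x, (algebraMap P R).map_mul, ← IsScalarTower.algebraMap_apply,
        Algebra.smul_def a, mul_assoc]⟩
    exact Module.Flat.trans A (P ⧸ RingHom.ker φ.toRingHom) _
  have hfS := Wiebe.AcycBaseChange.acyc_baseChange (A := A) f hfR κ
  let S := κ ⊗[A] R
  let C := Localization.AtPrime Q
  have hgu : IsUnit (((algebraMap T C).comp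
      (Algebra.TensorProduct.includeRight : P →ₐ[A] T).toRingHom) g) :=
    IsLocalization.map_units C (⟨_, hg⟩ : Q.primeCompl)
  let gR : R →ₐ[A] C :=
    { IsLocalization.Away.lift g hgu with
      commutes' := fun a => by
        show IsLocalization.Away.lift g hgu (algebraMap A R a) = _
        rw [IsScalarTower.algebraMap_apply A P R, IsLocalization.Away.lift_eq,
          IsScalarTower.algebraMap_apply A T C]
        exact congrArg (algebraMap T C) ((Algebra.TensorProduct.includeRight : P →ₐ[A] T).commutes a) }
  let ψ : S →ₐ[A] C := Algebra.TensorProduct.lift (IsScalarTower.toAlgHom A κ C) gR fun _ _ => mul_comm _ _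
  let j : T →ₐ[κ] S := Algebra.TensorProduct.map (AlgHom.id κ κ) (IsScalarTower.toAlgHom A P R)
  let : Algebra T S := j.toRingHom.toAlgebra
  have : IsScalarTower κ T S := .of_algebraMap_eq fun x => (j.commutes x).symm
  have hloc : IsLocalization ((Submonoid.powers g).map
      (Algebra.TensorProduct.includeRight : P →ₐ[A] T)) S := by
    refine IsLocalization.tensorProduct_tensorProduct_right A κ (Submonoid.powers g) R ?_
    refine RingHom.ext fun x => ?_
    exact Algebra.TensorProduct.map_tmul _ _ (1 : κ) x
  let : Algebra S C := ψ.toRingHom.toAlgebra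
  have hjψ : (ψ : S →ₐ[A] C).comp (j.restrictScalars A) = IsScalarTower.toAlgHom A T C := by
    refine Algebra.TensorProduct.ext (AlgHom.ext fun x => ?_) (AlgHom.ext fun x => ?_)
    · refine (congrArg ψ (Algebra.TensorProduct.map_tmul _ _ x (1 : P))).trans
        ((Algebra.TensorProduct.lift_tmul _ _ _ _ _).trans ?_)
      rw [map_one, map_one, mul_one]
      exact IsScalarTower.algebraMap_apply κ T C x
    · refine (congrArg ψ (Algebra.TensorProduct.map_tmul _ _ (1 : κ) x)).trans
        ((Algebra.TensorProduct.lift_tmul _ _ _ _ _).trans ?_)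
      rw [map_one, map_one, one_mul]
      exact IsLocalization.Away.lift_eq g hgu x
  have : IsScalarTower T S C := .of_algebraMap_eq fun x => (DFunLike.congr_fun hjψ x).symm
  have : Module.Flat S C := (Module.flat_iff_of_isLocalization S
    ((Submonoid.powers g).map (Algebra.TensorProduct.includeRight : P →ₐ[A] T)) C).2
    (IsLocalization.flat C Q.primeCompl)
  have hfC := Wiebe.Bridge.acyc_flat (B := C) _ hfS
  let fC : Fin l.length → C := fun i =>
    algebraMap S C ((Algebra.TensorProduct.includeRight : R →ₐ[A] S) (f i))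
  have hspanC : Ideal.span (Set.range fC) = (RingHom.ker π.toRingHom).map (algebraMap T C) := by
    have hcomp : ((algebraMap S C).comp (Algebra.TensorProduct.includeRight : R →ₐ[A] S).toRingHom).comp
        (algebraMap P R) = (algebraMap T C).comp (Algebra.TensorProduct.includeRight : P →ₐ[A] T).toRingHom := by
      refine RingHom.ext fun x => ?_
      refine Eq.trans ?_ (DFunLike.congr_fun hjψ ((1 : κ) ⊗ₜ[A] x))
      exact (congrArg ψ (Algebra.TensorProduct.map_tmul (AlgHom.id κ κ) (IsScalarTower.toAlgHom A P R)
        (1 : κ) x)).symm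
    rw [hker, show Set.range fC = ((algebraMap S C).comp
        (Algebra.TensorProduct.includeRight : R →ₐ[A] S).toRingHom) '' Set.range f from
      by rw [← Set.range_comp]; rfl, ← Ideal.map_span, hfspan, Ideal.map_map, hcomp]
    exact (Ideal.map_map _ _).symm
  have : IsNoetherianRing C := IsLocalization.isNoetherianRing Q.primeCompl _ inferInstance
  have hmem : ∀ i, fC i ∈ maximalIdeal C := fun i => by
    have : fC i ∈ (RingHom.ker π.toRingHom).map (algebraMap T C) :=
      hspanC ▸ Ideal.subset_span ⟨i, rfl⟩
    have hle : (RingHom.ker π.toRingHom).map (algebraMap T C) ≤ maximalIdeal C :=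
      Ideal.map_le_iff_le_comap.2 fun x hx =>
        (IsLocalization.AtPrime.to_map_mem_maximal_iff C Q x).2 (hJQ hx)
    exact hle this
  have hw := Wiebe.AcycRegular.isWeaklyRegular_reverse fC hfC fun i => by
    rw [jacobson_eq_maximalIdeal ⊥ bot_ne_top]; exact hmem i
  have := hT.isGorensteinLocalRing_localization Q
  have hG := LCI.gorenstein_quotient_of_isWeaklyRegular C (List.ofFn fC).reverse (fun x hx => by
    obtain ⟨i, rfl⟩ := List.mem_ofFn.1 (List.mem_reverse.1 hx)
    exact hmem i) hw
  have hlist : Ideal.ofList (List.ofFn fC).reverse = RingHom.ker (Localization.localRingHom Q qF π.toRingHom rfl) := by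
    rw [(localRingHom_surjective_ker π.toRingHom hπ qF).2, ← hspanC, Ideal.ofList]
    congr 1
    ext x
    simp only [List.mem_reverse, List.mem_ofFn]
    exact Iff.rfl
  exact isGorensteinLocalRing_ringEquiv ((Ideal.quotEquivOfEq hlist).trans
    (RingHom.quotientKerEquivOfSurjective (localRingHom_surjective_ker π.toRingHom hπ qF).1))

end Groth.Agent.Lib.Goren.LCIFibre
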