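import Groth.Agent.Lib.Goren.Basic
import Mathlib.RingTheory.LocalProperties.InjectiveDimension
import Mathlib.RingTheory.Ideal.Height

/-!
Gorenstein rings and injective dimension; localisation.
-/

universe u

open CategoryTheory IsLocalRing

namespace Groth.Agent.Lib.Goren.Global

open Groth.Agent.Lib.Goren.Basic

variable {A : Type u} [CommRing A]

/-- The localisation of `A` as a module is the localised ring. -/
theorem hasInjectiveDimensionLT_localizedModule_iff (p : Ideal A) [p.IsPrime] (n : ℕ) :
    HasInjectiveDimensionLT ((ModuleCat.of A A).localizedModule p.primeCompl) n ↔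
      HasInjectiveDimensionLT
        (ModuleCat.of (Localization.AtPrime p) (Localization.AtPrime p)) n := by
  have := (ModuleCat.of A A).localizedModule_isLocalizedModule p.primeCompl
  let e : ((ModuleCat.of A A).localizedModule p.primeCompl) ≃ₗ[Localization.AtPrime p]
      Localization.AtPrime p :=
    LinearEquiv.extendScalarsOfIsLocalization p.primeCompl (Localization.AtPrime p)
      (IsLocalizedModule.linearEquiv p.primeCompl
        ((ModuleCat.of A A).localizedModuleMkLinearMap p.primeCompl)
        (Algebra.linearMap A (Localization.AtPrime p)))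
  exact ⟨fun _ => hasInjectiveDimensionLT_of_iso e.toModuleIso n,
    fun _ => hasInjectiveDimensionLT_of_iso e.toModuleIso.symm n⟩

theorem hasInjectiveDimensionLT_localization [IsNoetherianRing A] (p : Ideal A) [p.IsPrime] (n : ℕ)
    (h : HasInjectiveDimensionLT (ModuleCat.of A A) (n + 1)) :
    HasInjectiveDimensionLT
      (ModuleCat.of (Localization.AtPrime p) (Localization.AtPrime p)) (n + 1) :=
  (hasInjectiveDimensionLT_localizedModule_iff p (n + 1)).mp
    ((ModuleCat.of A A).localizedModule_hasInjectiveDimensionLE n p.primeCompl)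

theorem isGorensteinLocalRing_localization [LocCoh.IsGorensteinLocalRing A] (p : Ideal A)
    [p.IsPrime] : LocCoh.IsGorensteinLocalRing (Localization.AtPrime p) := by
  have : IsNoetherianRing (Localization.AtPrime p) :=
    IsLocalization.isNoetherianRing p.primeCompl _ inferInstance
  obtain ⟨n, hn⟩ := LocCoh.IsGorensteinLocalRing.exists_hasInjectiveDimensionLT (A := A)
  exact isGorensteinLocalRing_iff.mpr ⟨n + 1, hasInjectiveDimensionLT_localization p n
    (hasInjectiveDimensionLT_of_ge _ n (n + 1) n.le_succ)⟩

theorem isGorensteinRing_of_local [LocCoh.IsGorensteinLocalRing A] : LocCoh.IsGorensteinRing A where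
  isGorensteinLocalRing_localization p _ := isGorensteinLocalRing_localization p

theorem hasInjectiveDimensionLT_iff_gorenstein [IsNoetherianRing A] :
    (∃ n : ℕ, HasInjectiveDimensionLT (ModuleCat.of A A) n) ↔
      (LocCoh.IsGorensteinRing A ∧ ringKrullDim A < ⊤) := by
  have hloc : ∀ p : Ideal A, ∀ [p.IsPrime], IsNoetherianRing (Localization.AtPrime p) := fun p _ =>
    IsLocalization.isNoetherianRing p.primeCompl _ inferInstance
  constructor
  · rintro ⟨n, hn⟩
    have hn' : HasInjectiveDimensionLT (ModuleCat.of A A) (n + 1) :=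
      hasInjectiveDimensionLT_of_ge _ n (n + 1) n.le_succ
    refine ⟨{ isGorensteinLocalRing_localization := fun p _ => ?_ }, ?_⟩
    · have := hloc p
      exact isGorensteinLocalRing_iff.mpr ⟨n + 1, hasInjectiveDimensionLT_localization p n hn'⟩
    · refine lt_of_le_of_lt (b := ((n : ℕ∞) : WithBot ℕ∞)) ?_ (WithBot.coe_lt_coe.mpr (ENat.natCast_lt_top n))
      refine iSup_le fun l => ?_
      have := hloc l.last.asIdeal
      obtain ⟨d, hd, hdn, -, -⟩ :=
        exists_dim (hasInjectiveDimensionLT_localization l.last.asIdeal n hn')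
      rw [IsLocalization.AtPrime.ringKrullDim_eq_height l.last.asIdeal] at hd
      have h1 : (l.length : ℕ∞) ≤ Order.height l.last := Order.length_le_height_last
      have h2 : l.last.asIdeal.height = (d : ℕ∞) := WithBot.coe_injective hd
      rw [PrimeSpectrum.height_eq_orderHeight] at h2
      have h3 : (l.length : ℕ∞) ≤ (n : ℕ∞) :=
        (h1.trans h2.le).trans (Nat.cast_le.mpr (by omega))
      exact WithBot.coe_le_coe.mpr h3
  · rintro ⟨hG, hdim⟩
    obtain ⟨n, hn⟩ : ∃ n : ℕ, ringKrullDim A ≤ n := by
      induction h : ringKrullDim A with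
      | bot => exact ⟨0, bot_le⟩
      | coe a =>
        rw [h] at hdim
        obtain ⟨n, rfl⟩ := ENat.ne_top_iff_exists.mp (WithBot.coe_lt_coe.mp hdim).ne
        exact ⟨n, le_rfl⟩
    refine ⟨n + 1, ((ModuleCat.of A A).hasInjectiveDimensionLE_iff_forall_maximalSpectrum n).mpr
      fun m => ?_⟩
    have := hG.isGorensteinLocalRing_localization m.asIdeal
    obtain ⟨k, hk⟩ := this.exists_hasInjectiveDimensionLT
    obtain ⟨d, hd, -, -, hd'⟩ := exists_dim hk
    rw [IsLocalization.AtPrime.ringKrullDim_eq_height m.asIdeal] at hd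
    have hle : (m.asIdeal.height : WithBot ℕ∞) ≤ ringKrullDim A :=
      Ideal.height_le_ringKrullDim_of_ne_top m.isMaximal.ne_top
    rw [hd] at hle
    have hdn : d ≤ n := by exact_mod_cast hle.trans hn
    exact (hasInjectiveDimensionLT_localizedModule_iff m.asIdeal (n + 1)).mpr
      (hasInjectiveDimensionLT_of_ge _ (d + 1) (n + 1) (by omega))

end Groth.Agent.Lib.Goren.Global
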