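import Groth.Agent.Lib.Goren.Flat
import Groth.Agent.Lib.Goren.Global
import Mathlib.RingTheory.RegularLocalRing.Polynomial
import Mathlib.RingTheory.LocalRing.ResidueField.Fiber
import Mathlib.RingTheory.PolynomialAlgebra
import Mathlib.RingTheory.AdjoinRoot
import Mathlib.RingTheory.Localization.BaseChange
import Mathlib.FieldTheory.RatFunc.AsPolynomial
import Mathlib.FieldTheory.IntermediateField.Adjoin.Basic

/-!
Gorenstein rings: localisations, quotients, flat algebras with Gorenstein fibres, polynomial rings,
finitely generated field extensions of the base.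
-/

universe u

open IsLocalRing TensorProduct Polynomial

namespace Groth.Agent.Lib.Goren.Rings

open Groth.Agent.Lib.Goren.Basic Groth.Agent.Lib.Goren.Flat

theorem isGorensteinRing_of_localization {A T : Type u} [CommRing A] [CommRing T] [Algebra A T]
    (M : Submonoid A) [IsLocalization M T] [h : LocCoh.IsGorensteinRing A] :
    LocCoh.IsGorensteinRing T := by
  have : IsNoetherianRing T := IsLocalization.isNoetherianRing M T inferInstance
  refine { isGorensteinLocalRing_localization := fun P _ => ?_ }
  have := h.isGorensteinLocalRing_localization (P.comap (algebraMap A T))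
  have : IsLocalization.AtPrime (Localization.AtPrime P) (P.comap (algebraMap A T)) :=
    IsLocalization.isLocalization_isLocalization_atPrime_isLocalization M (Localization.AtPrime P) P
  exact isGorensteinLocalRing_ringEquiv
    (IsLocalization.algEquiv (P.comap (algebraMap A T)).primeCompl
      (Localization.AtPrime (P.comap (algebraMap A T))) (Localization.AtPrime P)).toRingEquiv

theorem isGorensteinRing_of_ringEquiv {A T : Type u} [CommRing A] [CommRing T] (e : A ≃+* T)
    [LocCoh.IsGorensteinRing A] : LocCoh.IsGorensteinRing T := by
  let : Algebra A T := e.toRingHom.toAlgebra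
  have : IsLocalization (⊥ : Submonoid A) T := by
    have : IsLocalization (⊥ : Submonoid A) A := IsLocalization.self (fun x hx => by
      rw [Submonoid.mem_bot.mp hx]; exact isUnit_one)
    exact IsLocalization.isLocalization_of_algEquiv ⊥
      (AlgEquiv.ofRingEquiv (f := e) (fun _ => rfl) : A ≃ₐ[A] T)
  exact isGorensteinRing_of_localization (⊥ : Submonoid A)

theorem isGorensteinRing_of_isRegularRing (A : Type u) [CommRing A] [IsRegularRing A] :
    LocCoh.IsGorensteinRing A :=
  { isGorensteinLocalRing_localization := fun p _ =>
      have := IsRegularRing.isRegularLocalRing_localization p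
      isGorensteinLocalRing_of_isRegular (Localization.AtPrime p) }

/-- The quotient of a Gorenstein ring by a nonzerodivisor is a Gorenstein ring. -/
theorem isGorensteinRing_quotient {A : Type u} [CommRing A] [h : LocCoh.IsGorensteinRing A] {f : A}
    (hf : IsSMulRegular A f) : LocCoh.IsGorensteinRing (A ⧸ Ideal.span {f}) := by
  set I := Ideal.span ({f} : Set A)
  refine { isGorensteinLocalRing_localization := fun P _ => ?_ }
  set Q := P.comap (Ideal.Quotient.mk I) with hQ
  have := h.isGorensteinLocalRing_localization Q
  have hfQ : f ∈ Q := by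
    show Ideal.Quotient.mk I f ∈ P
    rw [Ideal.Quotient.eq_zero_iff_mem.mpr (Ideal.mem_span_singleton_self f)]
    exact P.zero_mem
  set AQ := Localization.AtPrime Q
  have hfm : algebraMap A AQ f ∈ maximalIdeal AQ :=
    (IsLocalization.AtPrime.to_map_mem_maximal_iff AQ Q f).mpr hfQ
  have hreg : IsSMulRegular AQ (algebraMap A AQ f) :=
    (RingTheory.Sequence.isWeaklyRegular_singleton_iff AQ _).mp
      (RingTheory.Sequence.IsWeaklyRegular.of_flat (S := AQ)
        ((RingTheory.Sequence.isWeaklyRegular_singleton_iff A f).mpr hf))
  have hG := (isGorensteinLocalRing_quotient_iff hfm hreg).mp inferInstance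
  have hIspan : I.map (algebraMap A AQ) = Ideal.span {algebraMap A AQ f} := by
    rw [Ideal.map_span, Set.image_singleton]
  have hsub : Algebra.algebraMapSubmonoid (A ⧸ I) Q.primeCompl = P.primeCompl := by
    ext x
    constructor
    · rintro ⟨a, ha, rfl⟩
      exact ha
    · intro hx
      obtain ⟨a, rfl⟩ := Ideal.Quotient.mk_surjective x
      exact ⟨a, hx, rfl⟩
  have : IsLocalization P.primeCompl (AQ ⧸ I.map (algebraMap A AQ)) := hsub ▸
    (inferInstance : IsLocalization (Algebra.algebraMapSubmonoid (A ⧸ I) Q.primeCompl)
      (AQ ⧸ I.map (algebraMap A AQ)))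
  have := isGorensteinLocalRing_ringEquiv (Ideal.quotEquivOfEq hIspan).symm
  exact isGorensteinLocalRing_ringEquiv
    (IsLocalization.algEquiv P.primeCompl (AQ ⧸ I.map (algebraMap A AQ))
      (Localization.AtPrime P)).toRingEquiv

section Fibres

variable {R S : Type u} [CommRing R] [CommRing S] [Algebra R S] [Module.Flat R S]

/-- Local rings of a flat algebra: Gorenstein iff base and fibre local rings are. -/
theorem isGorensteinLocalRing_localization_iff [IsNoetherianRing R] [IsNoetherianRing S]
    (p : Ideal R) [p.IsPrime] (qF : Ideal (p.Fiber S)) [qF.IsPrime] :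
    LocCoh.IsGorensteinLocalRing
        (Localization.AtPrime (qF.comap (Algebra.TensorProduct.includeRight (R := R) (A := p.ResidueField)))) ↔
      (LocCoh.IsGorensteinLocalRing (Localization.AtPrime p) ∧
        LocCoh.IsGorensteinLocalRing (Localization.AtPrime qF)) := by
  set q := qF.comap (Algebra.TensorProduct.includeRight (R := R) (A := p.ResidueField)) with hq
  have : q.LiesOver p := ⟨by
    rw [hq, Ideal.under_def, ← Ideal.comap_coe (Algebra.TensorProduct.includeRight (R := R)
      (A := p.ResidueField) (B := S)), Ideal.comap_comap, AlgHom.comp_algebraMap]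
    exact Ideal.over_def qF p⟩
  let : Algebra (Localization.AtPrime p) (Localization.AtPrime q) :=
    Localization.AtPrime.algebraOfLiesOver p q
  have : IsLocalHom (algebraMap (Localization.AtPrime p) (Localization.AtPrime q)) := by
    rw [Localization.AtPrime.IsLiesOverAlgebra.algebraMap_eq]
    exact Localization.isLocalHom_localRingHom _ _ _ _
  have : IsNoetherianRing (Localization.AtPrime p) :=
    IsLocalization.isNoetherianRing p.primeCompl _ inferInstance
  have : IsNoetherianRing (Localization.AtPrime q) :=
    IsLocalization.isNoetherianRing q.primeCompl _ inferInstance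
  rw [isGorensteinLocalRing_flat_iff (Localization.AtPrime p) (Localization.AtPrime q)]
  refine and_congr_right fun _ => isGorensteinLocalRing_ringEquiv_iff ?_
  refine (Ideal.quotEquivOfEq ?_).trans (Ideal.Fiber.algEquivAux₂ p qF).toRingEquiv.symm
  rw [← Localization.AtPrime.map_eq_maximalIdeal, Ideal.map_map, Ideal.map_map,
    ← IsScalarTower.algebraMap_eq, ← IsScalarTower.algebraMap_eq]

/-- A flat algebra over a Gorenstein ring with Gorenstein fibres is Gorenstein. -/
theorem isGorensteinRing_of_flat [hR : LocCoh.IsGorensteinRing R] [IsNoetherianRing S]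
    (hfib : ∀ (p : Ideal R) [p.IsPrime], LocCoh.IsGorensteinRing (p.Fiber S)) :
    LocCoh.IsGorensteinRing S := by
  refine { isGorensteinLocalRing_localization := fun q hq => ?_ }
  let p := q.comap (algebraMap R S)
  let qF := PrimeSpectrum.preimageEquivFiber R S ⟨p, inferInstance⟩ ⟨⟨q, hq⟩, rfl⟩
  have hcomap : qF.asIdeal.comap (Algebra.TensorProduct.includeRight (R := R) (A := p.ResidueField)) = q :=
    congrArg (fun x => (Subtype.val x).asIdeal)
      ((PrimeSpectrum.preimageEquivFiber R S ⟨p, inferInstance⟩).symm_apply_apply ⟨⟨q, hq⟩, rfl⟩)
  have h1 := (hfib p).isGorensteinLocalRing_localization qF.asIdeal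
  have h2 := hR.isGorensteinLocalRing_localization p
  have key := (isGorensteinLocalRing_localization_iff p qF.asIdeal).mpr ⟨h2, h1⟩
  have e : ∀ (q' : Ideal S) [q'.IsPrime], q' = q →
      LocCoh.IsGorensteinLocalRing (Localization.AtPrime q') →
        LocCoh.IsGorensteinLocalRing (Localization.AtPrime q) := by
    intro q' _ h hg
    subst h
    exact hg
  exact e _ hcomap key

end Fibres

section Polynomial

theorem isGorensteinRing_polynomial (R : Type u) [CommRing R] [LocCoh.IsGorensteinRing R] :
    LocCoh.IsGorensteinRing R[X] :=
  isGorensteinRing_of_flat (R := R) fun p _ =>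
    have := isGorensteinRing_of_isRegularRing p.ResidueField[X]
    isGorensteinRing_of_ringEquiv (polyEquivTensor' R p.ResidueField).toRingEquiv

theorem isGorensteinRing_mvPolynomial (R : Type u) [CommRing R] [LocCoh.IsGorensteinRing R]
    (n : ℕ) : LocCoh.IsGorensteinRing (MvPolynomial (Fin n) R) := by
  induction n with
  | zero => exact isGorensteinRing_of_ringEquiv (MvPolynomial.isEmptyRingEquiv R (Fin 0)).symm
  | succ n ih =>
    have := isGorensteinRing_polynomial (MvPolynomial (Fin n) R)
    exact isGorensteinRing_of_ringEquiv (MvPolynomial.finSuccEquiv R n).toRingEquiv.symm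

theorem isGorensteinRing_adjoinRoot {T : Type u} [CommRing T] [LocCoh.IsGorensteinRing T] {q : T[X]}
    (hq : q.Monic) : LocCoh.IsGorensteinRing (AdjoinRoot q) := by
  have := isGorensteinRing_polynomial T
  refine isGorensteinRing_quotient (f := q) fun a b hab => ?_
  by_contra hne
  exact sub_ne_zero.mpr hne (hq.mul_right_eq_zero_iff.mp
    (by rw [mul_sub]; exact sub_eq_zero.mpr hab))

end Polynomial

section FieldExtension

attribute [local instance] Algebra.TensorProduct.rightAlgebra in
/-- Base change of a localisation. -/
theorem isGorensteinRing_tensor_localization (R₀ A S : Type u) [CommRing R₀] [CommRing A]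
    [Algebra R₀ A] (M : Submonoid R₀) [IsLocalization M A] [CommRing S] [Algebra R₀ S]
    [LocCoh.IsGorensteinRing S] : LocCoh.IsGorensteinRing (A ⊗[R₀] S) :=
  isGorensteinRing_of_localization (Algebra.algebraMapSubmonoid S M)

/-- Adjoining one element to the base field. -/
theorem isGorensteinRing_tensor_simple (F L S : Type u) [Field F] [Field L] [Algebra F L] (x : L)
    (hx : IntermediateField.adjoin F {x} = ⊤) [CommRing S] [Algebra F S]
    [LocCoh.IsGorensteinRing S] : LocCoh.IsGorensteinRing (L ⊗[F] S) := by
  have := isGorensteinRing_polynomial S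
  let e₀ : IntermediateField.adjoin F {x} ≃ₐ[F] L :=
    (IntermediateField.equivOfEq hx).trans IntermediateField.topEquiv
  by_cases halg : IsIntegral F x
  · let q : (S ⊗[F] F)[X] := (minpoly F x).map Algebra.TensorProduct.includeRight.toRingHom
    have hq : q.Monic := (minpoly.monic halg).map _
    have := isGorensteinRing_of_ringEquiv (Algebra.TensorProduct.rid F F S).toRingEquiv.symm
    have h3 := isGorensteinRing_adjoinRoot hq
    exact isGorensteinRing_of_ringEquiv (A := AdjoinRoot q)
      ((AdjoinRoot.tensorAlgEquiv (minpoly F x) q rfl).symm.toRingEquiv.trans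
        ((Algebra.TensorProduct.congr (AlgEquiv.refl (R := F) (A₁ := S))
          ((IntermediateField.adjoinRootEquivAdjoin F halg).trans e₀)).toRingEquiv.trans
            (Algebra.TensorProduct.comm F S L).toRingEquiv))
  · have htr : Transcendental F x := fun h => halg h.isIntegral
    have := isGorensteinRing_of_ringEquiv (polyEquivTensor F S).toRingEquiv
    have := isGorensteinRing_of_ringEquiv (Algebra.TensorProduct.comm F S F[X]).toRingEquiv
    let e₁ : RatFunc F ≃ₐ[F] L := (RatFunc.algEquivOfTranscendental x htr).trans e₀
    have hG := isGorensteinRing_tensor_localization F[X] (RatFunc F) (F[X] ⊗[F] S)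
      (nonZeroDivisors F[X])
    exact isGorensteinRing_of_ringEquiv
      ((Algebra.TensorProduct.cancelBaseChange F F[X] F[X] (RatFunc F) S).toRingEquiv.trans
        (Algebra.TensorProduct.congr e₁ (AlgEquiv.refl (R := F) (A₁ := S))).toRingEquiv)

/-- A finitely generated field extension of the base field preserves being Gorenstein. -/
theorem isGorensteinRing_tensor_fg (k K R : Type u) [Field k] [Field K] [Algebra k K]
    (hK : ∃ s : Finset K, IntermediateField.adjoin k (s : Set K) = ⊤) [CommRing R] [Algebra k R]
    [LocCoh.IsGorensteinRing R] : LocCoh.IsGorensteinRing (K ⊗[k] R) := by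
  classical
  obtain ⟨s, hs⟩ := hK
  have key : ∀ t : Finset K,
      LocCoh.IsGorensteinRing (IntermediateField.adjoin k (t : Set K) ⊗[k] R) := by
    intro t
    induction t using Finset.induction_on with
    | empty =>
      let e : IntermediateField.adjoin k ((∅ : Finset K) : Set K) ≃ₐ[k] k :=
        (IntermediateField.equivOfEq (by simp)).trans (IntermediateField.botEquiv k K)
      exact isGorensteinRing_of_ringEquiv ((Algebra.TensorProduct.congr e
        (AlgEquiv.refl (R := k) (A₁ := R))).trans (Algebra.TensorProduct.lid k R)).toRingEquiv.symm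
    | insert x t hx ih =>
      let F := IntermediateField.adjoin k (t : Set K)
      let L' := IntermediateField.adjoin F {x}
      let e : L'.restrictScalars k ≃ₐ[k] IntermediateField.adjoin k ((insert x t : Finset K) : Set K) :=
        IntermediateField.equivOfEq (by
          show (IntermediateField.adjoin F {x}).restrictScalars k = _
          rw [IntermediateField.adjoin_adjoin_left, Finset.coe_insert]
          congr 1
          rw [Set.insert_eq, Set.union_comm])
      have hgen : IntermediateField.adjoin F {(IntermediateField.AdjoinSimple.gen F x)} = (⊤ : IntermediateField F L') := by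
        apply IntermediateField.map_injective L'.val
        rw [IntermediateField.adjoin_map, Set.image_singleton, ← AlgHom.fieldRange_eq_map,
          IntermediateField.fieldRange_val]
        rfl
      have := isGorensteinRing_tensor_simple F L' (F ⊗[k] R) (IntermediateField.AdjoinSimple.gen F x) hgen
      exact isGorensteinRing_of_ringEquiv
        ((Algebra.TensorProduct.cancelBaseChange k F F L' R).toRingEquiv.trans
          (Algebra.TensorProduct.congr (e : L' ≃ₐ[k] _) (AlgEquiv.refl (R := k) (A₁ := R))).toRingEquiv)
  have := key s
  exact isGorensteinRing_of_ringEquiv (Algebra.TensorProduct.congr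
    ((IntermediateField.equivOfEq hs).trans IntermediateField.topEquiv)
    (AlgEquiv.refl (R := k) (A₁ := R))).toRingEquiv

end FieldExtension

end Groth.Agent.Lib.Goren.Rings
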