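import Groth.Agent.H22.GlobalDim
import Groth.Agent.Lib.Depth.Ext
import Groth.Agent.Lib.InjHull.Torsion
import Mathlib.Algebra.Category.ModuleCat.Ext.Finite
import Mathlib.Algebra.Category.ModuleCat.InjectiveDimension

/-!
Injective dimension of finite modules over Noetherian local rings; change of rings along a regular
element.
-/

universe u v

open CategoryTheory Abelian InjHull

namespace Groth.Agent.Lib.Goren.InjDim

variable {R : Type u} [CommRing R]

theorem subsingleton_ext_of_subsingleton (X Y : ModuleCat.{u} R) [Subsingleton X] (i : ℕ) :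
    Subsingleton (Ext X Y i) :=
  subsingleton_of_forall_eq 0 fun α => by
    simpa using Depth.Ext.smul_eq_zero_of_annihilator_src (r := (1 : R))
      (Module.mem_annihilator.mpr fun x => Subsingleton.elim _ _) α

theorem factor_mk {I J : Ideal R} (h : I ≤ J) (r : R) :
    Submodule.factor h (Ideal.Quotient.mk I r) = Ideal.Quotient.mk J r := rfl

/-- Vanishing of `Ext(k, M)` in high degrees propagates to all cyclic modules. -/
theorem subsingleton_ext_quotient [IsNoetherianRing R] [IsLocalRing R] (M : ModuleCat.{u} R)
    [Module.Finite R M] (N : ℕ)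
    (h : ∀ i, N ≤ i → Subsingleton
      (Ext (ModuleCat.of R (IsLocalRing.ResidueField R)) M i)) (J : Ideal R) :
    ∀ i, N ≤ i → Subsingleton (Ext (ModuleCat.of R (R ⧸ J)) M i) := by
  induction J using WellFoundedGT.induction with
  | _ J ih =>
    rcases eq_or_ne J ⊤ with rfl | htop
    · intro i _
      have : Subsingleton (R ⧸ (⊤ : Ideal R)) := Submodule.Quotient.subsingleton_iff.mpr rfl
      exact subsingleton_ext_of_subsingleton _ _ i
    by_cases hm : J = IsLocalRing.maximalIdeal R
    · subst hm
      exact h
    intro i hi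
    by_cases hp : J.IsPrime
    · obtain ⟨x, hxm, hxJ⟩ := Set.not_subset.mp fun hle =>
        hm (le_antisymm (IsLocalRing.le_maximalIdeal htop) hle)
      have hJlt : J < J ⊔ Ideal.span {x} := lt_of_le_of_ne le_sup_left fun he =>
        hxJ (he ▸ Submodule.mem_sup_right (Ideal.mem_span_singleton_self x))
      let g : (R ⧸ J) →ₗ[R] R ⧸ (J ⊔ Ideal.span {x}) := Submodule.factor le_sup_left
      let f : (R ⧸ J) →ₗ[R] R ⧸ J := x • LinearMap.id
      have hfmk : ∀ y : R, f (Ideal.Quotient.mk J y) = Ideal.Quotient.mk J (x * y) := fun y => by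
        show x • Ideal.Quotient.mk J y = _
        rw [Algebra.smul_def, Ideal.Quotient.algebraMap_eq, ← map_mul]
      have hf : Function.Injective f := (injective_iff_map_eq_zero f).mpr fun y hy => by
        obtain ⟨y, rfl⟩ := Ideal.Quotient.mk_surjective y
        rw [hfmk, Ideal.Quotient.eq_zero_iff_mem] at hy
        exact Ideal.Quotient.eq_zero_iff_mem.mpr ((hp.mem_or_mem hy).resolve_left hxJ)
      have hfg : Function.Exact f g := by
        intro y
        obtain ⟨y, rfl⟩ := Ideal.Quotient.mk_surjective y
        simp only [g, factor_mk, Ideal.Quotient.eq_zero_iff_mem]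
        constructor
        · intro hy
          obtain ⟨a, ha, b, hb, rfl⟩ := Submodule.mem_sup.mp hy
          obtain ⟨c, rfl⟩ := Ideal.mem_span_singleton'.mp hb
          refine ⟨Ideal.Quotient.mk J c, ?_⟩
          rw [hfmk, map_add, Ideal.Quotient.eq_zero_iff_mem.mpr ha, zero_add, mul_comm]
        · rintro ⟨z, hz⟩
          obtain ⟨z, rfl⟩ := Ideal.Quotient.mk_surjective z
          rw [hfmk, Ideal.Quotient.mk_eq_mk_iff_sub_mem] at hz
          have := sub_mem (Submodule.mem_sup_right (Ideal.mul_mem_right z _
            (Ideal.mem_span_singleton_self x))) (Submodule.mem_sup_left (S := J) hz)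
          simpa using this
      let S : ShortComplex (ModuleCat.{u} R) :=
        ModuleCat.shortComplexOfCompEqZero f g hfg.linearMap_comp_eq_zero
      have hS : S.ShortExact := ModuleCat.shortComplex_shortExact S hfg hf
        (Submodule.factor_surjective le_sup_left)
      have h3 := ih _ hJlt (i + 1) (hi.trans i.le_succ)
      have hbot : (⊤ : Submodule R (Ext (ModuleCat.of R (R ⧸ J)) M i)) = ⊥ := by
        refine Submodule.eq_bot_of_le_smul_of_le_jacobson_bot (IsLocalRing.maximalIdeal R) _
          Module.Finite.fg_top ?_ (IsLocalRing.maximalIdeal_le_jacobson _)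
        intro α _
        obtain ⟨β, hβ⟩ := Ext.contravariant_sequence_exact₁ hS M α (n₁ := i + 1) (add_comm 1 i)
          ((show Subsingleton (Ext S.X₃ M (i + 1)) from h3).elim _ _)
        have he : S.f = x • 𝟙 (ModuleCat.of R (R ⧸ J)) := rfl
        rw [he, Ext.mk₀_smul, Ext.smul_comp, Ext.mk₀_id_comp] at hβ
        exact hβ ▸ Submodule.smul_mem_smul hxm trivial
      exact ⟨fun a b => by
        have h1 : a - b ∈ (⊥ : Submodule R _) := hbot ▸ trivial
        exact sub_eq_zero.mp ((Submodule.mem_bot R).mp h1)⟩
    · obtain ⟨a, b, hab, ha, hb⟩ : ∃ a b, a * b ∈ J ∧ a ∉ J ∧ b ∉ J := by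
        rw [Ideal.isPrime_iff] at hp
        push Not at hp
        exact hp htop
      let K : Ideal R := Submodule.comap (LinearMap.lsmul R R a) (J : Submodule R R)
      have hmemK : ∀ r, r ∈ K ↔ a * r ∈ J := fun _ => Iff.rfl
      have hJK : J < K := lt_of_le_of_ne (fun r hr => (hmemK r).mpr (J.mul_mem_left a hr))
        fun he => hb (he ▸ (hmemK b).mpr hab)
      have hJa : J < J ⊔ Ideal.span {a} := lt_of_le_of_ne le_sup_left fun he =>
        ha (he ▸ Submodule.mem_sup_right (Ideal.mem_span_singleton_self a))
      let g : (R ⧸ J) →ₗ[R] R ⧸ (J ⊔ Ideal.span {a}) := Submodule.factor le_sup_left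
      let f : (R ⧸ K) →ₗ[R] R ⧸ J := K.mapQ J (LinearMap.lsmul R R a) le_rfl
      have hfmk : ∀ y : R, f (Ideal.Quotient.mk K y) = Ideal.Quotient.mk J (a * y) := fun _ => rfl
      have hf : Function.Injective f := (injective_iff_map_eq_zero f).mpr fun y hy => by
        obtain ⟨y, rfl⟩ := Ideal.Quotient.mk_surjective y
        rw [hfmk, Ideal.Quotient.eq_zero_iff_mem] at hy
        exact Ideal.Quotient.eq_zero_iff_mem.mpr ((hmemK y).mpr hy)
      have hfg : Function.Exact f g := by
        intro y
        obtain ⟨y, rfl⟩ := Ideal.Quotient.mk_surjective y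
        simp only [g, factor_mk, Ideal.Quotient.eq_zero_iff_mem]
        constructor
        · intro hy
          obtain ⟨a', ha', b', hb', rfl⟩ := Submodule.mem_sup.mp hy
          obtain ⟨c, rfl⟩ := Ideal.mem_span_singleton'.mp hb'
          refine ⟨Ideal.Quotient.mk K c, ?_⟩
          rw [hfmk, map_add, Ideal.Quotient.eq_zero_iff_mem.mpr ha', zero_add, mul_comm]
        · rintro ⟨z, hz⟩
          obtain ⟨z, rfl⟩ := Ideal.Quotient.mk_surjective z
          rw [hfmk, Ideal.Quotient.mk_eq_mk_iff_sub_mem] at hz
          have := sub_mem (Submodule.mem_sup_right (Ideal.mul_mem_right z _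
            (Ideal.mem_span_singleton_self a))) (Submodule.mem_sup_left (S := J) hz)
          simpa using this
      let S : ShortComplex (ModuleCat.{u} R) :=
        ModuleCat.shortComplexOfCompEqZero f g hfg.linearMap_comp_eq_zero
      exact Depth.Ext.subsingleton_src_X₂ M
        (ModuleCat.shortComplex_shortExact S hfg hf (Submodule.factor_surjective le_sup_left))
        (ih _ hJK i hi) (ih _ hJa i hi)

/-- The injective dimension of a finite module is detected by the residue field. -/
theorem hasInjectiveDimensionLT_of_ext [IsNoetherianRing R] [IsLocalRing R] (M : ModuleCat.{u} R)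
    [Module.Finite R M] (d : ℕ)
    (h : ∀ i, d + 1 ≤ i → Subsingleton
      (Ext (ModuleCat.of R (IsLocalRing.ResidueField R)) M i)) :
    HasInjectiveDimensionLT M (d + 1) :=
  H22.GlobalDim.hasInjectiveDimensionLT_of_cyclic d M fun J =>
    subsingleton_ext_quotient M (d + 1) h J (d + 1) le_rfl

theorem exists_smul_eq_of_injective {f : R} (hf : IsSMulRegular R f) {E : Type u} [AddCommGroup E]
    [Module R E] (hE : Module.Injective R E) (e : E) : ∃ e' : E, f • e' = e := by
  obtain ⟨ψ, hψ⟩ := hE.out (LinearMap.lsmul R R f) hf (LinearMap.toSpanSingleton R E e)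
  refine ⟨ψ 1, ?_⟩
  have h1 := hψ 1
  simp only [LinearMap.lsmul_apply, LinearMap.toSpanSingleton_apply, one_smul] at h1
  rwa [← map_smul]

section ChangeOfRings

variable (f : R)

set_option quotPrecheck false in
local notation "Rb" => R ⧸ Ideal.span ({f} : Set R)

/-- An injective module over `R ⧸ f` has injective dimension at most one over `R`. -/
theorem hasInjectiveDimensionLT_two_of_injective (hf : IsSMulRegular R f) (N : Type u)
    [AddCommGroup N] [Module R N] [Module Rb N] [IsScalarTower R Rb N]
    (hN : Module.Injective Rb N) : HasInjectiveDimensionLT (ModuleCat.of R N) 2 := by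
  obtain ⟨E, _, _, j, hj⟩ := InjHull.Basic.exists_hull (R := R) N
  obtain ⟨g, hg, hgf⟩ := InjHull.Torsion.torsionBy_isInjectiveHull (Ideal.span {f}) N hj
  obtain ⟨C, hC⟩ := InjHull.Basic.exists_isCompl_range g hg.injective hN
  have hCbot : C = ⊥ := by
    by_contra hne
    exact hg.essential C hne (by rw [inf_comm]; exact hC.inf_eq_bot)
  have hgsurj : ∀ e : E, f • e = 0 → ∃ n, j n = e := fun e he => by
    have hmem : e ∈ Submodule.torsionBySet R E (Ideal.span {f} : Set R) := by
      rw [Submodule.mem_torsionBySet_iff]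
      rintro ⟨c, hc⟩
      obtain ⟨d, rfl⟩ := Ideal.mem_span_singleton'.mp hc
      show (d * f) • e = 0
      rw [mul_smul, he, smul_zero]
    have : (⟨e, hmem⟩ : Submodule.torsionBySet R E (Ideal.span {f} : Set R)) ∈ LinearMap.range g := by
      have h2 := hC.sup_eq_top
      rw [hCbot, sup_bot_eq] at h2
      rw [h2]; trivial
    obtain ⟨n, hn⟩ := this
    exact ⟨n, (hgf n).symm.trans (congrArg Subtype.val hn)⟩
  have hfN : ∀ n : N, f • n = 0 := fun n => by
    rw [← algebraMap_smul Rb f n, Ideal.Quotient.algebraMap_eq,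
      Ideal.Quotient.eq_zero_iff_mem.mpr (Ideal.mem_span_singleton_self f), zero_smul]
  have hexact : Function.Exact j (LinearMap.lsmul R E f) := fun e => by
    refine ⟨fun he => hgsurj e he, ?_⟩
    rintro ⟨n, rfl⟩
    show f • j n = 0
    rw [← map_smul, hfN, map_zero]
  have hEinj := hj.isInjective
  let S : ShortComplex (ModuleCat.{u} R) :=
    ModuleCat.shortComplexOfCompEqZero j (LinearMap.lsmul R E f) hexact.linearMap_comp_eq_zero
  have hS : S.ShortExact := ModuleCat.shortComplex_shortExact S hexact hj.injective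
    (exists_smul_eq_of_injective hf hEinj)
  have : Injective (ModuleCat.of R E) := (Module.injective_iff_injective_object R E).mp hEinj
  have h3 : HasInjectiveDimensionLT S.X₃ 1 := inferInstanceAs (HasInjectiveDimensionLT (ModuleCat.of R E) 1)
  exact (hS.hasInjectiveDimensionLT_X₃_iff 0 this).mp h3

theorem hasInjectiveDimensionLT_left {A B C : Type u} [AddCommGroup A] [Module R A] [AddCommGroup B]
    [Module R B] [AddCommGroup C] [Module R C] {i : A →ₗ[R] B} {p : B →ₗ[R] C}
    (hex : Function.Exact i p) (hi : Function.Injective i) (hp : Function.Surjective p) (n : ℕ)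
    (h3 : HasInjectiveDimensionLT (ModuleCat.of R C) n)
    (h2 : HasInjectiveDimensionLT (ModuleCat.of R B) (n + 1)) :
    HasInjectiveDimensionLT (ModuleCat.of R A) (n + 1) :=
  (ModuleCat.shortComplex_shortExact (ModuleCat.shortComplexOfCompEqZero i p hex.linearMap_comp_eq_zero)
    hex hi hp).hasInjectiveDimensionLT_X₁ n h3 h2

theorem hasInjectiveDimensionLT_restrict_step (hf : IsSMulRegular R f) (n : ℕ) (N : Type u)
    [AddCommGroup N] [Module R N] [Module Rb N] [IsScalarTower R Rb N]
    (ih : ∀ (Q : Type u) [AddCommGroup Q] [Module R Q] [Module Rb Q] [IsScalarTower R Rb Q],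
      HasInjectiveDimensionLT (ModuleCat.of Rb Q) (n + 1) →
        HasInjectiveDimensionLT (ModuleCat.of R Q) (n + 1 + 1))
    (h : HasInjectiveDimensionLT (ModuleCat.of Rb N) (n + 2)) :
    HasInjectiveDimensionLT (ModuleCat.of R N) (n + 2 + 1) := by
  obtain ⟨I, j, hI, hj⟩ := InjHull.Basic.exists_injective_embedding (R := Rb) N
  let : Module R I := Module.compHom I (algebraMap R Rb)
  have : IsScalarTower R Rb I := IsScalarTower.of_algebraMap_smul fun _ _ => rfl
  let S : ShortComplex (ModuleCat.{u} Rb) :=
    ModuleCat.shortComplexOfCompEqZero j (LinearMap.range j).mkQ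
      (LinearMap.exact_map_mkQ_range j).linearMap_comp_eq_zero
  have hS : S.ShortExact := ModuleCat.shortComplex_shortExact S (LinearMap.exact_map_mkQ_range j) hj
    (Submodule.mkQ_surjective _)
  have hX2 : Injective S.X₂ := (Module.injective_iff_injective_object Rb I).mp hI
  have hQ := ih (I ⧸ LinearMap.range j) ((hS.hasInjectiveDimensionLT_X₃_iff n hX2).mpr h)
  let j' : N →ₗ[R] I := j.restrictScalars R
  let q' : I →ₗ[R] I ⧸ LinearMap.range j := (LinearMap.range j).mkQ.restrictScalars R
  have hex' : Function.Exact j' q' := LinearMap.exact_map_mkQ_range j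
  have h2 : HasInjectiveDimensionLT (ModuleCat.of R I) (n + 2 + 1) := by
    have := hasInjectiveDimensionLT_two_of_injective f hf I hI
    exact hasInjectiveDimensionLT_of_ge _ 2 (n + 2 + 1) (by omega)
  have hj' : Function.Injective j' := hj
  have hq' : Function.Surjective q' := Submodule.mkQ_surjective (LinearMap.range j)
  clear_value j' q'
  exact hasInjectiveDimensionLT_left (R := R) (A := N) (B := I) (C := I ⧸ LinearMap.range j)
    (i := j') (p := q') hex' hj' hq' (n + 2) hQ h2

/-- Injective dimension over `R` is at most one more than over `R ⧸ f`. -/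
theorem hasInjectiveDimensionLT_restrict (hf : IsSMulRegular R f) : ∀ (n : ℕ) (N : Type u)
    [AddCommGroup N] [Module R N] [Module Rb N] [IsScalarTower R Rb N],
    HasInjectiveDimensionLT (ModuleCat.of Rb N) n →
      HasInjectiveDimensionLT (ModuleCat.of R N) (n + 1) := by
  intro n
  induction n using Nat.twoStepInduction with
  | zero =>
    intro N _ _ _ _ h
    have : Subsingleton N := ModuleCat.subsingleton_of_isZero
      (isZero_of_hasInjectiveDimensionLT_zero (X := ModuleCat.of Rb N))
    have := (ModuleCat.isZero_of_subsingleton (ModuleCat.of R N)).hasInjectiveDimensionLT_zero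
    exact hasInjectiveDimensionLT_of_ge _ 0 1 zero_le_one
  | one =>
    intro N _ _ _ _ h
    exact hasInjectiveDimensionLT_two_of_injective f hf N
      ((Module.injective_iff_injective_object Rb N).mpr inferInstance)
  | more n _ ih =>
    intro N _ _ _ _ h
    exact hasInjectiveDimensionLT_restrict_step f hf n N ih h

/-- The functoriality of the part killed by `f`. -/
noncomputable def torsionMap {M M' : Type u} [AddCommGroup M] [Module R M] [AddCommGroup M']
    [Module R M'] (u : M →ₗ[R] M') :
    Submodule.torsionBySet R M (Ideal.span {f} : Set R) →ₗ[Rb]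
      Submodule.torsionBySet R M' (Ideal.span {f} : Set R) :=
  LinearMap.extendScalarsOfSurjective Ideal.Quotient.mk_surjective
    ((u ∘ₗ (Submodule.torsionBySet R M (Ideal.span {f} : Set R)).subtype).codRestrict
      (Submodule.torsionBySet R M' (Ideal.span {f} : Set R)) fun x => by
        rw [Submodule.mem_torsionBySet_iff]
        intro c
        show (c : R) • u x.1 = 0
        rw [← map_smul, (Submodule.mem_torsionBySet_iff _ _).mp x.2 c, map_zero])

theorem torsionMap_apply {M M' : Type u} [AddCommGroup M] [Module R M] [AddCommGroup M']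
    [Module R M'] (u : M →ₗ[R] M') (x : Submodule.torsionBySet R M (Ideal.span {f} : Set R)) :
    ((torsionMap f u x : Submodule.torsionBySet R M' (Ideal.span {f} : Set R)) : M') = u x := rfl

/-- On modules divisible by `f`, passing to the part killed by `f` lowers injective dimension. -/
theorem hasInjectiveDimensionLT_torsion (hf : IsSMulRegular R f) : ∀ (n : ℕ) (Q : Type u)
    [AddCommGroup Q] [Module R Q], (∀ q : Q, ∃ q', f • q' = q) →
    HasInjectiveDimensionLT (ModuleCat.of R Q) n →
      HasInjectiveDimensionLT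
        (ModuleCat.of Rb (Submodule.torsionBySet R Q (Ideal.span {f} : Set R))) n
  | 0, Q, _, _, _, h => by
    have : Subsingleton Q := ModuleCat.subsingleton_of_isZero
      (isZero_of_hasInjectiveDimensionLT_zero (X := ModuleCat.of R Q))
    exact (ModuleCat.isZero_of_subsingleton _).hasInjectiveDimensionLT_zero
  | 1, Q, _, _, _, h => by
    have : Module.Injective R Q := (Module.injective_iff_injective_object R Q).mpr inferInstance
    have := (Module.injective_iff_injective_object Rb _).mp
      (InjHull.Torsion.injective_torsionBy (Ideal.span {f}) Q)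
    infer_instance
  | n + 2, Q, _, _, hQ, h => by
    obtain ⟨E, _, _, j, hj⟩ := InjHull.Basic.exists_hull (R := R) Q
    have hEinj := hj.isInjective
    let Q' := E ⧸ LinearMap.range j
    have hQ'div : ∀ q : Q', ∃ q', f • q' = q := fun q => by
      obtain ⟨e, rfl⟩ := Submodule.Quotient.mk_surjective _ q
      obtain ⟨e', rfl⟩ := exists_smul_eq_of_injective hf hEinj e
      exact ⟨Submodule.Quotient.mk e', rfl⟩
    let S : ShortComplex (ModuleCat.{u} R) :=
      ModuleCat.shortComplexOfCompEqZero j (LinearMap.range j).mkQ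
        (LinearMap.exact_map_mkQ_range j).linearMap_comp_eq_zero
    have hS : S.ShortExact := ModuleCat.shortComplex_shortExact S (LinearMap.exact_map_mkQ_range j)
      hj.injective (Submodule.mkQ_surjective _)
    have hinj2 : Injective S.X₂ := (Module.injective_iff_injective_object R E).mp hEinj
    have hQ' := hasInjectiveDimensionLT_torsion hf (n + 1) Q' hQ'div
      ((hS.hasInjectiveDimensionLT_X₃_iff n hinj2).mpr h)
    let j' := torsionMap f j
    let q' := torsionMap f (LinearMap.range j).mkQ
    have hj'app : ∀ x, (j' x).1 = j x.1 := fun _ => rfl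
    have hq'app : ∀ x, (q' x).1 = Submodule.Quotient.mk x.1 := fun _ => rfl
    have hex : Function.Exact j' q' := fun e => by
      constructor
      · intro he
        have h1 : Submodule.Quotient.mk e.1 = (0 : Q') := (hq'app e).symm.trans (congrArg Subtype.val he)
        obtain ⟨x, hx⟩ := (Submodule.Quotient.mk_eq_zero _).mp h1
        refine ⟨⟨x, (Submodule.mem_torsionBySet_iff _ _).mpr fun c => hj.injective ?_⟩, Subtype.ext hx⟩
        rw [map_zero, map_smul, hx]
        exact (Submodule.mem_torsionBySet_iff _ _).mp e.2 c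
      · rintro ⟨x, rfl⟩
        exact Subtype.ext ((hq'app _).trans ((Submodule.Quotient.mk_eq_zero _).mpr ⟨x.1, rfl⟩))
    have hqsurj : Function.Surjective q' := fun y => by
      obtain ⟨e, he⟩ := Submodule.Quotient.mk_surjective _ y.1
      have h1 : f • e ∈ LinearMap.range j := by
        rw [← Submodule.Quotient.mk_eq_zero, Submodule.Quotient.mk_smul, he]
        exact (Submodule.mem_torsionBySet_iff _ _).mp y.2 ⟨f, Ideal.mem_span_singleton_self f⟩
      obtain ⟨x, hx⟩ := h1
      obtain ⟨x', rfl⟩ := hQ x
      refine ⟨⟨e - j x', (Submodule.mem_torsionBySet_iff _ _).mpr ?_⟩, Subtype.ext ?_⟩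
      · rintro ⟨c, hc⟩
        obtain ⟨d, rfl⟩ := Ideal.mem_span_singleton'.mp hc
        show (d * f) • (e - j x') = 0
        rw [mul_smul, smul_sub, ← map_smul, hx, sub_self, smul_zero]
      · refine (hq'app _).trans ?_
        rw [Submodule.Quotient.mk_sub, (Submodule.Quotient.mk_eq_zero (LinearMap.range j)).mpr
          ⟨x', rfl⟩, sub_zero, he]
    let S' : ShortComplex (ModuleCat.{u} Rb) :=
      ModuleCat.shortComplexOfCompEqZero j' q' hex.linearMap_comp_eq_zero
    have hS' : S'.ShortExact := ModuleCat.shortComplex_shortExact S' hex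
      (fun a b h => Subtype.ext (hj.injective (congrArg Subtype.val h))) hqsurj
    have hT : Injective S'.X₂ :=
      (Module.injective_iff_injective_object Rb _).mp
        (InjHull.Torsion.injective_torsionBy (Ideal.span {f}) E)
    exact (hS'.hasInjectiveDimensionLT_X₃_iff n hT).mp hQ'

/-- Injective dimension drops modulo a regular element. -/
theorem hasInjectiveDimensionLT_quotient (hf : IsSMulRegular R f) (n : ℕ)
    (h : HasInjectiveDimensionLT (ModuleCat.of R R) (n + 1)) :
    HasInjectiveDimensionLT (ModuleCat.of Rb Rb) n := by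
  obtain ⟨E, _, _, j, hj⟩ := InjHull.Basic.exists_hull (R := R) R
  have hEinj := hj.isInjective
  have hfE : ∀ e : E, f • e = 0 → e = 0 := fun e he => by
    by_contra hne
    obtain ⟨r, hr0, y, hy⟩ := ((InjHull.Basic.isEssentialInj_iff j).mp hj.toIsEssentialInj).2 e hne
    refine hr0 ?_
    rw [← hy]
    have : f • y = 0 := hj.injective (by rw [map_smul, hy, smul_comm, he, smul_zero, map_zero])
    rw [show y = 0 from hf (this.trans (smul_zero f).symm), map_zero]
  let Q := E ⧸ LinearMap.range j
  let S : ShortComplex (ModuleCat.{u} R) :=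
    ModuleCat.shortComplexOfCompEqZero j (LinearMap.range j).mkQ
      (LinearMap.exact_map_mkQ_range j).linearMap_comp_eq_zero
  have hS : S.ShortExact := ModuleCat.shortComplex_shortExact S (LinearMap.exact_map_mkQ_range j)
    hj.injective (Submodule.mkQ_surjective _)
  have hinj2 : Injective S.X₂ := (Module.injective_iff_injective_object R E).mp hEinj
  have hQdiv : ∀ q : Q, ∃ q', f • q' = q := fun q => by
    obtain ⟨e, rfl⟩ := Submodule.Quotient.mk_surjective _ q
    obtain ⟨e', rfl⟩ := exists_smul_eq_of_injective hf hEinj e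
    exact ⟨Submodule.Quotient.mk e', rfl⟩
  obtain ⟨e₁, he₁⟩ := exists_smul_eq_of_injective hf hEinj (j 1)
  let T := Submodule.torsionBySet R Q (Ideal.span {f} : Set R)
  have hmem : (Submodule.Quotient.mk e₁ : Q) ∈ T := by
    rw [Submodule.mem_torsionBySet_iff]
    rintro ⟨c, hc⟩
    obtain ⟨d, rfl⟩ := Ideal.mem_span_singleton'.mp hc
    show (d * f) • Submodule.Quotient.mk e₁ = (0 : Q)
    rw [← Submodule.Quotient.mk_smul, Submodule.Quotient.mk_eq_zero, mul_smul, he₁, ← map_smul]
    exact ⟨_, rfl⟩
  let φ : Rb →ₗ[Rb] T := LinearMap.toSpanSingleton Rb T ⟨_, hmem⟩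
  have hφ : ∀ r : R, (φ (Ideal.Quotient.mk _ r)).1 = Submodule.Quotient.mk (r • e₁) := fun r => rfl
  have hbij : Function.Bijective φ := by
    refine ⟨(injective_iff_map_eq_zero φ).mpr fun r hr => ?_, fun y => ?_⟩
    · obtain ⟨r, rfl⟩ := Ideal.Quotient.mk_surjective r
      have h1 := (hφ r).symm.trans (congrArg Subtype.val hr)
      obtain ⟨y, hy⟩ := (Submodule.Quotient.mk_eq_zero _).mp h1
      have h2 : j (f • y) = j r := by
        rw [map_smul, hy, smul_comm, he₁, ← map_smul, smul_eq_mul, mul_one]
      rw [Ideal.Quotient.eq_zero_iff_mem, ← hj.injective h2, smul_eq_mul]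
      exact Ideal.mul_mem_right _ _ (Ideal.mem_span_singleton_self f)
    · obtain ⟨e, he⟩ := Submodule.Quotient.mk_surjective _ y.1
      have h1 : f • e ∈ LinearMap.range j := by
        rw [← Submodule.Quotient.mk_eq_zero, Submodule.Quotient.mk_smul, he]
        exact (Submodule.mem_torsionBySet_iff _ _).mp y.2 ⟨f, Ideal.mem_span_singleton_self f⟩
      obtain ⟨r, hr⟩ := h1
      refine ⟨Ideal.Quotient.mk _ r, Subtype.ext ((hφ r).trans ?_)⟩
      rw [← he, Submodule.Quotient.eq]
      have h2 : f • (r • e₁ - e) = 0 := by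
        rw [smul_sub, smul_comm, he₁, ← map_smul, smul_eq_mul, mul_one, hr, sub_self]
      rw [hfE _ h2]
      exact zero_mem _
  cases n with
  | zero =>
    have : Module.Injective R R :=
      (Module.injective_iff_injective_object R R).mpr (by infer_instance)
    obtain ⟨c, hc⟩ := exists_smul_eq_of_injective hf this 1
    have htop : Ideal.span {f} = ⊤ :=
      Ideal.span_singleton_eq_top.mpr (IsUnit.of_mul_eq_one c (by rwa [smul_eq_mul] at hc))
    have : Subsingleton Rb := Submodule.Quotient.subsingleton_iff.mpr htop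
    exact (ModuleCat.isZero_of_subsingleton _).hasInjectiveDimensionLT_zero
  | succ n =>
    have hQ := hasInjectiveDimensionLT_torsion f hf (n + 1) Q hQdiv
      ((hS.hasInjectiveDimensionLT_X₃_iff n hinj2).mpr h)
    exact hasInjectiveDimensionLT_of_iso (LinearEquiv.ofBijective φ hbij).toModuleIso.symm (n + 1)

end ChangeOfRings

end Groth.Agent.Lib.Goren.InjDim
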