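import Groth.Agent.Lib.Goren.Basic
import Groth.Agent.Lib.InjHull.BaseChange
import Groth.Agent.Lib.LocalFlat.InjMod
import Groth.Agent.Lib.LocalFlat.SmulTop
import Mathlib.RingTheory.Artinian.Ring

/-!
Zero-dimensional Gorenstein rings, and flat local extensions of Gorenstein rings.
-/

universe u

open CategoryTheory IsLocalRing InjHull TensorProduct Pointwise

namespace Groth.Agent.Lib.Goren.Artin

open Groth.Agent.Lib.Goren.Basic Groth.Agent.Lib.InjHull

variable {A : Type u} [CommRing A] [IsLocalRing A]

theorem depth_eq_zero [IsArtinianRing A] : LocCoh.depth A A = 0 := by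
  rw [Depth.Assoc.depth_eq_zero_iff]
  obtain ⟨p, hp⟩ := associatedPrimes.nonempty A A
  have : p.IsPrime := hp.isPrime
  have hmax : p.IsMaximal := IsArtinianRing.isMaximal_of_isPrime p
  rwa [← IsLocalRing.eq_maximalIdeal hmax]

variable [IsNoetherianRing A]

/-- A self-injective local ring of depth zero is Artinian with simple socle. -/
theorem length_socle_of_injective (hd : LocCoh.depth A A = 0) (hinj : Module.Injective A A) :
    IsArtinianRing A ∧ Module.length A (LocCoh.torsionBy (maximalIdeal A) A) = 1 := by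
  refine ⟨isArtinianRing_of_injective hd hinj, ?_⟩
  obtain ⟨φ, hφ⟩ := exists_residueField_embedding ((Depth.Assoc.depth_eq_zero_iff (M := A)).mp hd)
  have hind : IsIndecomposable A A := by
    refine ⟨inferInstance, fun N N' hc => ?_⟩
    obtain ⟨a, ha, b, hb, hab⟩ := Submodule.mem_sup.mp
      (show (1 : A) ∈ N ⊔ N' by rw [hc.sup_eq_top]; trivial)
    rcases IsLocalRing.isUnit_or_isUnit_of_add_one hab with hu | hu
    · exact Or.inr (hc.disjoint.symm.eq_bot_of_le (by rw [Ideal.eq_top_of_isUnit_mem N ha hu]; exact le_top))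
    · exact Or.inl (hc.disjoint.eq_bot_of_le (by rw [Ideal.eq_top_of_isUnit_mem N' hb hu]; exact le_top))
  have hess : IsEssentialInj φ := ⟨hφ, fun N hN => Basic.inf_ne_bot_of_indecomposable hind hinj hN
    fun h => by
      rw [LinearMap.range_eq_bot] at h
      subst h
      exact not_subsingleton (ResidueField A) ⟨fun a b => hφ rfl⟩⟩
  have := Matlis.isSimpleModule_torsionBy (m := maximalIdeal A) hess
  exact Module.length_eq_one A _

theorem injective_of_length_socle [IsArtinianRing A]
    (h : Module.length A (LocCoh.torsionBy (maximalIdeal A) A) = 1) : Module.Injective A A := by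
  have hsimple : IsSimpleModule A ((A ⧸ maximalIdeal A) →ₗ[A] A) := by
    have := Module.length_eq_one_iff.mp h
    exact IsSimpleModule.congr (BaseChange.homQuotientEquiv _ _)
  obtain ⟨φ, hφ⟩ := Recognize.exists_essential_of_simple_socle A
    (Artinian.isPowerTorsion_of_isArtinian A) hsimple
  obtain ⟨E, _, _, g, hg⟩ := Basic.exists_hull (R := A) (A ⧸ maximalIdeal A)
  obtain ⟨α, hα, -⟩ := Basic.exists_extend hφ g hg.injective hg.isInjective
  have hfl : IsFiniteLength A A :=
    isFiniteLength_iff_isNoetherian_isArtinian.mpr ⟨inferInstance, inferInstance⟩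
  obtain ⟨_, _⟩ := isFiniteLength_iff_isNoetherian_isArtinian.mp (Matlis.isFiniteLength_dual hg hfl)
  let c : (A →ₗ[A] A) →ₗ[A] (A →ₗ[A] E) := LinearMap.llcomp A _ _ _ α
  have hc : Function.Injective c := fun ψ χ h => LinearMap.ext fun y => hα (LinearMap.congr_fun h y)
  have hcsurj : Function.Surjective c := by
    rw [← LinearMap.range_eq_top]
    by_contra hne
    have h2 := Submodule.length_lt hne
    rw [← (LinearEquiv.ofInjective c hc).length_eq, Matlis.length_dual hg hfl] at h2
    rw [LinearEquiv.length_eq (R := A) (M := A →ₗ[A] A) (N := A) (LinearMap.ringLmapEquivSelf A A A)] at h2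
    exact lt_irrefl _ h2
  have hsurj : Function.Surjective α := fun e => by
    obtain ⟨ψ, hψ⟩ := hcsurj (LinearMap.toSpanSingleton A E e)
    refine ⟨ψ 1, ?_⟩
    have := LinearMap.congr_fun hψ (1 : A)
    simpa [c] using this
  exact Basic.injective_of_equiv (LinearEquiv.ofBijective α ⟨hα, hsurj⟩).symm hg.isInjective

theorem isGorensteinLocalRing_iff_socle [IsArtinianRing A] :
    LocCoh.IsGorensteinLocalRing A ↔
      Module.length A (LocCoh.torsionBy (maximalIdeal A) A) = 1 := by
  constructor
  · intro h
    obtain ⟨n, hn⟩ := h.exists_hasInjectiveDimensionLT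
    have := injective_of_depth_eq_zero depth_eq_zero hn
    exact (length_socle_of_injective depth_eq_zero
      ((Module.injective_iff_injective_object A A).mpr inferInstance)).2
  · intro h
    have := (Module.injective_iff_injective_object A A).mp (injective_of_length_socle h)
    exact isGorensteinLocalRing_iff.mpr ⟨1, inferInstance⟩

theorem isArtinianRing_of_gorenstein_depth_zero [LocCoh.IsGorensteinLocalRing A]
    (hd : LocCoh.depth A A = 0) : IsArtinianRing A := by
  obtain ⟨n, hn⟩ := LocCoh.IsGorensteinLocalRing.exists_hasInjectiveDimensionLT (A := A)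
  have := injective_of_depth_eq_zero hd hn
  exact isArtinianRing_of_injective hd ((Module.injective_iff_injective_object A A).mpr inferInstance)

omit [IsNoetherianRing A] [IsLocalRing A] in
/-- An isomorphism restricts to the parts killed by an ideal. -/
noncomputable def torsionCongr (I : Ideal A) {M N : Type*} [AddCommGroup M] [Module A M]
    [AddCommGroup N] [Module A N] (e : M ≃ₗ[A] N) :
    LocCoh.torsionBy I M ≃ₗ[A] LocCoh.torsionBy I N :=
  e.ofSubmodules _ _ (by
    ext y
    rw [Submodule.mem_map_equiv, Submodule.mem_torsionBySet_iff, Submodule.mem_torsionBySet_iff]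
    refine forall_congr' fun c => ?_
    rw [← map_smul, LinearEquiv.map_eq_zero_iff])

omit [IsNoetherianRing A] [IsLocalRing A] in
/-- The part of a power killed by an ideal is the power of the part killed by it. -/
noncomputable def torsionPi (I : Ideal A) (ι : Type*) (M : Type*) [AddCommGroup M] [Module A M] :
    LocCoh.torsionBy I (ι → M) ≃ₗ[A] (ι → LocCoh.torsionBy I M) where
  toFun x i := ⟨x.1 i, (Submodule.mem_torsionBySet_iff _ _).mpr fun c =>
    congrFun ((Submodule.mem_torsionBySet_iff _ _).mp x.2 c) i⟩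
  map_add' _ _ := rfl
  map_smul' _ _ := rfl
  invFun y := ⟨fun i => (y i).1, (Submodule.mem_torsionBySet_iff _ _).mpr fun c => funext fun i =>
    (Submodule.mem_torsionBySet_iff _ _).mp (y i).2 c⟩
  left_inv _ := rfl
  right_inv _ := rfl

omit [IsNoetherianRing A] [IsLocalRing A] in
/-- Killing by `I` and then by a larger ideal is killing by the larger ideal. -/
noncomputable def torsionTorsion {I J : Ideal A} (h : I ≤ J) (M : Type*) [AddCommGroup M] [Module A M] :
    LocCoh.torsionBy J (LocCoh.torsionBy I M) ≃ₗ[A] LocCoh.torsionBy J M where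
  toFun x := ⟨x.1.1, (Submodule.mem_torsionBySet_iff _ _).mpr fun c =>
    congrArg Subtype.val ((Submodule.mem_torsionBySet_iff _ _).mp x.2 c)⟩
  map_add' _ _ := rfl
  map_smul' _ _ := rfl
  invFun y := ⟨⟨y.1, (Submodule.mem_torsionBySet_iff _ _).mpr fun c =>
      (Submodule.mem_torsionBySet_iff _ _).mp y.2 ⟨c.1, h c.2⟩⟩,
    (Submodule.mem_torsionBySet_iff _ _).mpr fun c => Subtype.ext
      ((Submodule.mem_torsionBySet_iff _ _).mp y.2 c)⟩
  left_inv _ := rfl
  right_inv _ := rfl

variable {B : Type u} [CommRing B] [IsLocalRing B] [IsNoetherianRing B] [Algebra A B]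
  [IsLocalHom (algebraMap A B)] [Module.Flat A B]

omit [IsNoetherianRing B] in
/-- The socle of a flat local extension. -/
theorem length_socle_eq :
    Module.length B (LocCoh.torsionBy (maximalIdeal B) B) =
      Module.length A (LocCoh.torsionBy (maximalIdeal A) A) *
        Module.length B (LocCoh.torsionBy (maximalIdeal B)
          (B ⧸ (maximalIdeal A).map (algebraMap A B))) := by
  let m := maximalIdeal A
  let : Field (A ⧸ m) := Ideal.Quotient.field m
  have : Module.Finite A (LocCoh.torsionBy m A) := Module.Finite.iff_fg.mpr (IsNoetherian.noetherian _)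
  have : Module.Finite (A ⧸ m) (LocCoh.torsionBy m A) :=
    Module.Finite.of_restrictScalars_finite A _ _
  let b := Module.finBasis (A ⧸ m) (LocCoh.torsionBy m A)
  set r := Module.finrank (A ⧸ m) (LocCoh.torsionBy m A)
  have hr : Module.length A (LocCoh.torsionBy m A) = r := by
    rw [Module.length_eq_of_surjective (R := A ⧸ m) (S := A) Ideal.Quotient.mk_surjective,
      Module.length_eq_finrank]
  have hle : m.map (algebraMap A B) ≤ maximalIdeal B := IsLocalRing.map_maximalIdeal_le _
  obtain ⟨e₀⟩ := BaseChange.nonempty_torsionBy_equiv (B := B) (E := A) m (IsNoetherian.noetherian _)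
  let e₁ : LocCoh.torsionBy m A ≃ₗ[A] (Fin r → A ⧸ m) := b.equivFun.restrictScalars A
  let e₂ : LocCoh.torsionBy (m.map (algebraMap A B)) B ≃ₗ[B]
      (Fin r → B ⧸ m.map (algebraMap A B)) :=
    ((torsionCongr (m.map (algebraMap A B)) (AlgebraTensorModule.rid A B B)).symm.trans e₀.symm).trans
      ((AlgebraTensorModule.congr (LinearEquiv.refl B B) e₁).trans
        ((TensorProduct.piRight A B B (fun _ : Fin r => A ⧸ m)).trans
          (LinearEquiv.piCongrRight fun _ =>
            (Algebra.TensorProduct.quotIdealMapEquivTensorQuot B m).toLinearEquiv.symm)))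
  let e₃ : LocCoh.torsionBy (maximalIdeal B) B ≃ₗ[B]
      (Fin r → LocCoh.torsionBy (maximalIdeal B) (B ⧸ m.map (algebraMap A B))) :=
    ((torsionTorsion hle B).symm.trans (torsionCongr (maximalIdeal B) e₂)).trans
      (torsionPi (maximalIdeal B) (Fin r) _)
  rw [e₃.length_eq, Module.length_pi_of_fintype, hr, Finset.sum_const, Finset.card_univ,
    Fintype.card_fin, nsmul_eq_mul]

omit [IsNoetherianRing B] [IsLocalHom (algebraMap A B)] [Module.Flat A B] [IsLocalRing A]
  [IsNoetherianRing A] in
theorem length_socle_quotient (J : Ideal B) [IsLocalRing (B ⧸ J)] :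
    Module.length B (LocCoh.torsionBy (maximalIdeal B) (B ⧸ J)) =
      Module.length (B ⧸ J) (LocCoh.torsionBy (maximalIdeal (B ⧸ J)) (B ⧸ J)) := by
  have : IsLocalHom (Ideal.Quotient.mk J) := IsLocalHom.of_surjective _ Ideal.Quotient.mk_surjective
  have hmax : maximalIdeal (B ⧸ J) = (maximalIdeal B).map (Ideal.Quotient.mk J) :=
    le_antisymm (fun x hx => by
      obtain ⟨b, rfl⟩ := Ideal.Quotient.mk_surjective x
      exact Ideal.mem_map_of_mem _ (fun hu => hx (hu.map (Ideal.Quotient.mk J))))
      (IsLocalRing.map_maximalIdeal_le _)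
  have hset : (LocCoh.torsionBy (maximalIdeal (B ⧸ J)) (B ⧸ J)).restrictScalars B =
      LocCoh.torsionBy (maximalIdeal B) (B ⧸ J) := by
    ext x
    simp only [Submodule.restrictScalars_mem, Submodule.mem_torsionBySet_iff]
    constructor
    · intro h c
      have := h ⟨Ideal.Quotient.mk J c, hmax ▸ Ideal.mem_map_of_mem _ c.2⟩
      exact this
    · intro h c
      obtain ⟨c', hc', he⟩ := (Ideal.mem_map_iff_of_surjective _ Ideal.Quotient.mk_surjective).mp
        (hmax ▸ c.2 : (c : B ⧸ J) ∈ (maximalIdeal B).map (Ideal.Quotient.mk J))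
      have := h ⟨c', hc'⟩
      show (c : B ⧸ J) • x = 0
      rw [← he]
      exact this
  rw [← hset, (Submodule.restrictScalarsEquiv B (B ⧸ J) (B ⧸ J)
    (LocCoh.torsionBy (maximalIdeal (B ⧸ J)) (B ⧸ J))).restrictScalars B |>.length_eq]
  exact Module.length_eq_of_surjective (R := B ⧸ J) (S := B) Ideal.Quotient.mk_surjective

end Groth.Agent.Lib.Goren.Artin
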