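import Groth.Agent.Lib.Goren.Artin
import Groth.Agent.Lib.Depth.Assoc
import Mathlib.RingTheory.TensorProduct.Quotient
import Mathlib.RingTheory.Regular.Flat
import Mathlib.RingTheory.Flat.Stability

/-!
A flat local extension is Gorenstein iff base and closed fibre are.
-/

universe u

open CategoryTheory IsLocalRing TensorProduct Pointwise

namespace Groth.Agent.Lib.Goren.Flat

open Groth.Agent.Lib.Goren.Basic Groth.Agent.Lib.Goren.Artin

attribute [local instance] RingHomInvPair.of_ringEquiv

theorem hasInjectiveDimensionLT_ringEquiv {R S : Type u} [CommRing R] [CommRing S] (e : R ≃+* S)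
    (n : ℕ) (h : HasInjectiveDimensionLT (ModuleCat.of R R) (n + 1)) :
    HasInjectiveDimensionLT (ModuleCat.of S S) (n + 1) :=
  (ModuleCat.hasInjectiveDimensionLE_iff_of_semiLinearEquiv e
    (M := ModuleCat.of R R) (N := ModuleCat.of S S) e.toSemilinearEquiv n).mp h

theorem isGorensteinLocalRing_ringEquiv {R S : Type u} [CommRing R] [CommRing S] (e : R ≃+* S)
    [LocCoh.IsGorensteinLocalRing R] : LocCoh.IsGorensteinLocalRing S := by
  have : IsNoetherianRing S := isNoetherianRing_of_ringEquiv R e
  have : IsLocalRing S := e.isLocalRing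
  obtain ⟨n, hn⟩ := LocCoh.IsGorensteinLocalRing.exists_hasInjectiveDimensionLT (A := R)
  exact isGorensteinLocalRing_iff.mpr ⟨n + 1, hasInjectiveDimensionLT_ringEquiv e n
    (hasInjectiveDimensionLT_of_ge _ n (n + 1) n.le_succ)⟩

theorem isGorensteinLocalRing_ringEquiv_iff {R S : Type u} [CommRing R] [CommRing S] (e : R ≃+* S) :
    LocCoh.IsGorensteinLocalRing R ↔ LocCoh.IsGorensteinLocalRing S :=
  ⟨fun _ => isGorensteinLocalRing_ringEquiv e, fun _ => isGorensteinLocalRing_ringEquiv e.symm⟩

theorem depth_ringEquiv {R S : Type u} [CommRing R] [IsLocalRing R] [CommRing S] [IsLocalRing S]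
    (e : R ≃+* S) : LocCoh.depth R R = LocCoh.depth S S := by
  let : Algebra R S := e.toRingHom.toAlgebra
  rw [← Depth.Basic.depth_eq_of_surjective (R := R) (S := S) (M := S) e.surjective]
  exact Depth.Basic.depth_congr
    (LinearEquiv.ofBijective (Algebra.linearMap R S) e.bijective)

theorem exists_regular {R : Type u} [CommRing R] [IsLocalRing R] [IsNoetherianRing R] {d : ℕ}
    (hd : LocCoh.depth R R = (d + 1 : ℕ)) :
    ∃ x ∈ maximalIdeal R, IsSMulRegular R x ∧ ∀ [IsLocalRing (R ⧸ Ideal.span {x})],
      LocCoh.depth (R ⧸ Ideal.span {x}) (R ⧸ Ideal.span {x}) = d := by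
  obtain ⟨x, hx, hreg, -, hdx⟩ := Depth.Local.exists_regular_of_idealDepth_eq_succ hd
  refine ⟨x, hx, hreg, ?_⟩
  intro _
  rw [← Depth.CM.depth_quotient_eq, Depth.Basic.depth_congr
    (Submodule.quotEquivOfEq (Ideal.span {x}) (x • ⊤) (by
      rw [← Submodule.ideal_span_singleton_smul, smul_eq_mul, Ideal.mul_top]))]
  exact hdx

/-- An element regular on the closed fibre is regular and cuts out a flat quotient. -/
theorem regular_flat_of_fibre {A B : Type u} [CommRing A] [IsLocalRing A] [IsNoetherianRing A]
    [CommRing B] [IsLocalRing B] [IsNoetherianRing B] [Algebra A B] [IsLocalHom (algebraMap A B)]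
    [Module.Flat A B] (y : B)
    (hy : IsSMulRegular (B ⧸ (maximalIdeal A).map (algebraMap A B))
      (Ideal.Quotient.mk ((maximalIdeal A).map (algebraMap A B)) y)) :
    IsSMulRegular B y ∧ Module.Flat A (B ⧸ Ideal.span {y}) := by
  let u : B →ₗ[A] B := (LinearMap.lsmul B B y).restrictScalars A
  have hmem : ∀ z : B, z ∈ maximalIdeal A • (⊤ : Submodule A B) ↔
      z ∈ (maximalIdeal A).map (algebraMap A B) := fun z => by
    rw [Ideal.smul_top_eq_map]
    rfl
  have h : Function.Injective (u.lTensor (ResidueField A)) := by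
    refine (LocalFlat.SmulTop.lTensor_quotient_injective_iff (maximalIdeal A) u).mpr fun x hx => ?_
    rw [hmem] at hx ⊢
    rw [← Ideal.Quotient.eq_zero_iff_mem] at hx ⊢
    refine hy ?_
    show Ideal.Quotient.mk _ y * Ideal.Quotient.mk _ x = Ideal.Quotient.mk _ y * 0
    rw [mul_zero, ← map_mul]
    exact hx
  refine ⟨LocalFlat.InjMod.injective_of_injective_mod u h B, ?_⟩
  have := LocalFlat.InjMod.flat_coker u h B
  refine Module.Flat.of_linearEquiv (R := A) (M := B ⧸ LinearMap.range u)
    (Submodule.quotEquivOfEq ((Ideal.span {y}).restrictScalars A) (LinearMap.range u) ?_)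
  ext z
  rw [Submodule.restrictScalars_mem, Ideal.mem_span_singleton']
  exact ⟨fun ⟨a, ha⟩ => ⟨a, (mul_comm y a).trans ha⟩, fun ⟨a, ha⟩ => ⟨a, (mul_comm a y).trans ha⟩⟩

/-- Both sides have depth zero: the socle computation. -/
theorem iff_of_depth_zero {A B : Type u} [CommRing A] [IsLocalRing A] [IsNoetherianRing A]
    [CommRing B] [IsLocalRing B] [IsNoetherianRing B] [Algebra A B] [IsLocalHom (algebraMap A B)]
    [Module.Flat A B] [IsLocalRing (B ⧸ (maximalIdeal A).map (algebraMap A B))]
    (hA : LocCoh.depth A A = 0)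
    (hF : LocCoh.depth (B ⧸ (maximalIdeal A).map (algebraMap A B))
      (B ⧸ (maximalIdeal A).map (algebraMap A B)) = 0) :
    LocCoh.IsGorensteinLocalRing B ↔ (LocCoh.IsGorensteinLocalRing A ∧
      LocCoh.IsGorensteinLocalRing (B ⧸ (maximalIdeal A).map (algebraMap A B))) := by
  set J := (maximalIdeal A).map (algebraMap A B) with hJ
  have hlen := length_socle_eq (A := A) (B := B)
  rw [← hJ, length_socle_quotient J] at hlen
  have hff : Module.FaithfullyFlat A B := Module.FaithfullyFlat.of_flat_of_isLocalHom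
  constructor
  · intro hB
    -- `k_B` embeds into `F`, which embeds into `B`
    obtain ⟨φA, hφA⟩ := exists_residueField_embedding ((Depth.Assoc.depth_eq_zero_iff (M := A)).mp hA)
    let ι : (B ⧸ J) →ₗ[B] B :=
      (AlgebraTensorModule.rid A B B).toLinearMap ∘ₗ φA.baseChange B ∘ₗ
        (Algebra.TensorProduct.quotIdealMapEquivTensorQuot B (maximalIdeal A)).toLinearEquiv.toLinearMap
    have hι : Function.Injective ι := fun p q hpq =>
      (Algebra.TensorProduct.quotIdealMapEquivTensorQuot B (maximalIdeal A)).injective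
        (Module.Flat.lTensor_preserves_injective_linearMap (M := B) φA hφA
          ((AlgebraTensorModule.rid A B B).injective hpq))
    have hFB : LocCoh.depth B (B ⧸ J) = 0 := by rw [Depth.CM.depth_quotient_eq]; exact hF
    have hB0 : LocCoh.depth B B = 0 := by
      have h1 := (Depth.Assoc.depth_eq_zero_iff (M := B ⧸ J)).mp hFB
      exact (Depth.Assoc.depth_eq_zero_iff (M := B)).mpr (h1.map_of_injective ι hι)
    have hBart := isArtinianRing_of_gorenstein_depth_zero hB0
    have hFart : IsArtinianRing (B ⧸ J) := inferInstance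
    have hAart : IsArtinianRing A := by
      have : IsArtinian B (B ⊗[A] A) := (AlgebraTensorModule.rid A B B).symm.isArtinian_iff.mp inferInstance
      exact Submodule.IsArtinian.of_isArtinian_tensorProduct_of_faithfullyFlat this
    rw [isGorensteinLocalRing_iff_socle] at hB
    rw [hB] at hlen
    rw [isGorensteinLocalRing_iff_socle, isGorensteinLocalRing_iff_socle]
    exact mul_eq_one.mp hlen.symm
  · rintro ⟨hGA, hGF⟩
    have hAart := isArtinianRing_of_gorenstein_depth_zero hA
    have hFart := isArtinianRing_of_gorenstein_depth_zero hF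
    have hBart : IsArtinianRing B := by
      have h1 : Module.length B B ≠ ⊤ := by
        rw [← LinearEquiv.length_eq (R := B) (M := B ⊗[A] A) (N := B) (AlgebraTensorModule.rid A B B),
          IsLocalRing.length_baseChange, ← hJ]
        refine WithTop.mul_ne_top (Module.length_ne_top) ?_
        rw [Module.length_eq_of_surjective (R := B ⧸ J) (S := B) Ideal.Quotient.mk_surjective]
        exact Module.length_ne_top
      exact ((isFiniteLength_iff_isNoetherian_isArtinian.mp (Module.length_ne_top_iff.mp h1)).2 :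
        IsArtinian B B)
    rw [isGorensteinLocalRing_iff_socle] at hGA hGF ⊢
    rw [hlen, hGA, hGF, mul_one]

theorem main : ∀ (a c : ℕ) (A B : Type u) [CommRing A] [IsLocalRing A] [IsNoetherianRing A]
    [CommRing B] [IsLocalRing B] [IsNoetherianRing B] [Algebra A B] [IsLocalHom (algebraMap A B)]
    [Module.Flat A B] [IsLocalRing (B ⧸ (maximalIdeal A).map (algebraMap A B))],
    LocCoh.depth A A = a →
    LocCoh.depth (B ⧸ (maximalIdeal A).map (algebraMap A B))
      (B ⧸ (maximalIdeal A).map (algebraMap A B)) = c →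
    (LocCoh.IsGorensteinLocalRing B ↔ (LocCoh.IsGorensteinLocalRing A ∧
      LocCoh.IsGorensteinLocalRing (B ⧸ (maximalIdeal A).map (algebraMap A B)))) := by
  intro a
  induction a with
  | zero =>
    intro c
    induction c with
    | zero =>
      intro A B _ _ _ _ _ _ _ _ _ _ hA hF
      exact iff_of_depth_zero (by simpa using hA) (by simpa using hF)
    | succ c ih =>
      intro A B _ _ _ _ _ _ _ _ _ _ hA hF
      set J := (maximalIdeal A).map (algebraMap A B) with hJ
      obtain ⟨y', hy'm, hy'reg, hdep⟩ := exists_regular hF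
      obtain ⟨y, rfl⟩ := Ideal.Quotient.mk_surjective y'
      obtain ⟨hyreg, hflat⟩ := regular_flat_of_fibre (A := A) y hy'reg
      have hym : y ∈ maximalIdeal B := fun hu => hy'm (hu.map (Ideal.Quotient.mk J))
      set K := Ideal.span ({y} : Set B) with hK
      have := isLocalRing_quotient_span hym
      have := isLocalRing_quotient_span hy'm
      have : IsLocalHom (algebraMap A (B ⧸ K)) := by
        refine ((IsLocalRing.local_hom_TFAE (algebraMap A (B ⧸ K))).out 0 2).mpr ?_
        rw [IsScalarTower.algebraMap_eq A B (B ⧸ K), ← Ideal.map_map, Ideal.Quotient.algebraMap_eq,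
          ← IsLocalRing.map_maximalIdeal_of_surjective (Ideal.Quotient.mk K) Ideal.Quotient.mk_surjective]
        exact Ideal.map_mono (IsLocalRing.map_maximalIdeal_le _)
      let e : ((B ⧸ J) ⧸ Ideal.span {Ideal.Quotient.mk J y}) ≃+*
          (B ⧸ K) ⧸ (maximalIdeal A).map (algebraMap A (B ⧸ K)) :=
        ((Ideal.quotEquivOfEq (by rw [hK, Ideal.map_span, Set.image_singleton])).trans
          ((DoubleQuot.quotQuotEquivQuotSup J K).trans ((Ideal.quotEquivOfEq (sup_comm J K)).trans
            (DoubleQuot.quotQuotEquivQuotSup K J).symm))).trans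
          (Ideal.quotEquivOfEq (by
            rw [IsScalarTower.algebraMap_eq A B (B ⧸ K), ← Ideal.map_map, Ideal.Quotient.algebraMap_eq]))
      have : IsLocalRing ((B ⧸ K) ⧸ (maximalIdeal A).map (algebraMap A (B ⧸ K))) := e.isLocalRing
      have key := ih A (B ⧸ K) hA ((depth_ringEquiv e).symm.trans hdep)
      rw [← isGorensteinLocalRing_ringEquiv_iff e, ← isGorensteinLocalRing_quotient_iff hy'm hy'reg]
        at key
      exact (isGorensteinLocalRing_quotient_iff hym hyreg).trans key
  | succ a ih =>
    intro c A B _ _ _ _ _ _ _ _ _ _ hA hF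
    obtain ⟨x, hx, hreg, hdep⟩ := exists_regular hA
    set I := Ideal.span ({x} : Set A) with hI
    set K := I.map (algebraMap A B) with hK
    have hK' : K = Ideal.span {algebraMap A B x} := by
      rw [hK, hI, Ideal.map_span, Set.image_singleton]
    have hxB : algebraMap A B x ∈ maximalIdeal B := by
      have := IsLocalRing.map_maximalIdeal_le (algebraMap A B)
      exact this (Ideal.mem_map_of_mem _ hx)
    have hregB : IsSMulRegular B (algebraMap A B x) :=
      (RingTheory.Sequence.isWeaklyRegular_singleton_iff B _).mp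
        (RingTheory.Sequence.IsWeaklyRegular.of_flat (S := B)
          ((RingTheory.Sequence.isWeaklyRegular_singleton_iff A x).mpr hreg))
    have := isLocalRing_quotient_span hx
    have := isLocalRing_quotient_span hxB
    have : IsLocalRing (B ⧸ K) := (Ideal.quotEquivOfEq hK').symm.isLocalRing
    have : Module.Flat (A ⧸ I) (B ⧸ K) := Module.Flat.of_linearEquiv
      (Algebra.TensorProduct.quotIdealMapEquivQuotTensor B I).toLinearEquiv
    have hmA := IsLocalRing.map_maximalIdeal_of_surjective (Ideal.Quotient.mk I) Ideal.Quotient.mk_surjective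
    have hmB := IsLocalRing.map_maximalIdeal_of_surjective (Ideal.Quotient.mk K) Ideal.Quotient.mk_surjective
    have hmap : (maximalIdeal (A ⧸ I)).map (algebraMap (A ⧸ I) (B ⧸ K)) =
        ((maximalIdeal A).map (algebraMap A B)).map (Ideal.Quotient.mk K) := by
      rw [← hmA, Ideal.map_map, Ideal.map_map]
      rfl
    have : IsLocalHom (algebraMap (A ⧸ I) (B ⧸ K)) := by
      refine ((IsLocalRing.local_hom_TFAE (algebraMap (A ⧸ I) (B ⧸ K))).out 0 2).mpr ?_
      rw [hmap, ← hmB]
      exact Ideal.map_mono (IsLocalRing.map_maximalIdeal_le _)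
    have hKle : K ≤ (maximalIdeal A).map (algebraMap A B) :=
      Ideal.map_mono ((Ideal.span_singleton_le_iff_mem _).mpr hx)
    let e : (B ⧸ (maximalIdeal A).map (algebraMap A B)) ≃+*
        (B ⧸ K) ⧸ (maximalIdeal (A ⧸ I)).map (algebraMap (A ⧸ I) (B ⧸ K)) :=
      ((Ideal.quotEquivOfEq hmap).trans (DoubleQuot.quotQuotEquivQuotOfLE hKle)).symm
    have : IsLocalRing ((B ⧸ K) ⧸ (maximalIdeal (A ⧸ I)).map (algebraMap (A ⧸ I) (B ⧸ K))) :=
      e.isLocalRing
    have key := ih c (A ⧸ I) (B ⧸ K) hdep ((depth_ringEquiv e).symm.trans hF)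
    rw [← isGorensteinLocalRing_ringEquiv_iff e, ← isGorensteinLocalRing_quotient_iff hx hreg,
      isGorensteinLocalRing_ringEquiv_iff (Ideal.quotEquivOfEq hK'),
      ← isGorensteinLocalRing_quotient_iff hxB hregB] at key
    exact key

/-- `B` is Gorenstein iff `A` and the closed fibre are. -/
theorem isGorensteinLocalRing_flat_iff (A B : Type u) [CommRing A] [IsLocalRing A] [IsNoetherianRing A]
    [CommRing B] [IsLocalRing B] [IsNoetherianRing B] [Algebra A B] [IsLocalHom (algebraMap A B)]
    [Module.Flat A B] :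
    LocCoh.IsGorensteinLocalRing B ↔ (LocCoh.IsGorensteinLocalRing A ∧
      LocCoh.IsGorensteinLocalRing (B ⧸ (maximalIdeal A).map (algebraMap A B))) := by
  have : Nontrivial (B ⧸ (maximalIdeal A).map (algebraMap A B)) :=
    Ideal.Quotient.nontrivial_iff.mpr (IsLocalRing.map_maximalIdeal_lt_top _).ne
  have : IsLocalRing (B ⧸ (maximalIdeal A).map (algebraMap A B)) :=
    IsLocalRing.of_surjective' _ Ideal.Quotient.mk_surjective
  obtain ⟨a, ha⟩ := ENat.ne_top_iff_exists.mp (Depth.Assoc.depth_ne_top (R := A) A)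
  obtain ⟨c, hc⟩ := ENat.ne_top_iff_exists.mp (Depth.Assoc.depth_ne_top
    (R := B ⧸ (maximalIdeal A).map (algebraMap A B)) (B ⧸ (maximalIdeal A).map (algebraMap A B)))
  exact main a c A B ha.symm hc.symm

end Groth.Agent.Lib.Goren.Flat
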