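import Groth.Agent.Lib.Goren.LCIFibre

/-!
Local complete intersection algebras over Gorenstein rings are Gorenstein.
-/

universe u

open IsLocalRing RingTheory.Sequence TensorProduct

namespace Groth.Agent.Lib.Goren.OfLCI

open Groth.Agent.Lib.Goren.Basic Groth.Agent.Lib.Goren.Flat Groth.Agent.Lib.Goren.Rings

theorem isGorensteinRing_of_isLCI (A B : Type u) [CommRing A] [CommRing B] [Algebra A B]
    (hA : LocCoh.IsGorensteinRing A) (hl : LCI.IsLCI A B) : LocCoh.IsGorensteinRing B := by
  obtain ⟨-, N, φ, hφ, hJ⟩ := hl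
  let P := MvPolynomial (Fin N) A
  have hP : LocCoh.IsGorensteinRing P := isGorensteinRing_mvPolynomial A N
  have : IsNoetherianRing B := isNoetherianRing_of_surjective P _ φ.toRingHom hφ
  refine { isGorensteinLocalRing_localization := fun q _ => ?_ }
  let Q := q.comap φ.toRingHom
  obtain ⟨g, hg, l, hreg, hspan⟩ := hJ ⟨Q, inferInstance⟩ (fun x hx => by
    rw [Ideal.mem_comap, RingHom.mem_ker.1 hx]
    exact zero_mem _)
  let R := Localization.Away g
  let C := Localization.AtPrime Q
  let f : Fin l.length → R := fun i => l.get i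
  have hfR : Wiebe.Link.Acyc f :=
    Wiebe.Bridge.acyc_of_isKoszulRegularSeq f (by rwa [List.ofFn_get])
  have hgu : IsUnit (algebraMap P C g) := IsLocalization.map_units C (⟨g, hg⟩ : Q.primeCompl)
  let : Algebra R C := (IsLocalization.Away.lift g hgu).toAlgebra
  have : IsScalarTower P R C :=
    .of_algebraMap_eq fun x => (IsLocalization.Away.lift_eq g hgu x).symm
  have : Module.Flat R C := (Module.flat_iff_of_isLocalization R (Submonoid.powers g) C).2
    (IsLocalization.flat C Q.primeCompl)
  have : IsNoetherianRing C := IsLocalization.isNoetherianRing Q.primeCompl _ inferInstance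
  have hspanC : Ideal.span (Set.range fun i => algebraMap R C (f i)) =
      (RingHom.ker φ.toRingHom).map (algebraMap P C) := by
    rw [show (Set.range fun i => algebraMap R C (f i)) = algebraMap R C '' Set.range f from
      Set.range_comp (algebraMap R C) f, ← Ideal.map_span,
      show Set.range f = {x | x ∈ l} from Set.ext fun x => List.mem_iff_get.symm, ← hspan,
      Ideal.map_map, ← IsScalarTower.algebraMap_eq]
  have hle : (RingHom.ker φ.toRingHom).map (algebraMap P C) ≤ maximalIdeal C :=
    Ideal.map_le_iff_le_comap.2 fun x hx => (IsLocalization.AtPrime.to_map_mem_maximal_iff C Q x).2 (by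
      rw [Ideal.mem_comap, RingHom.mem_ker.1 hx]
      exact zero_mem _)
  have hmem : ∀ i, algebraMap R C (f i) ∈ maximalIdeal C := fun i =>
    hle (hspanC ▸ Ideal.subset_span ⟨i, rfl⟩)
  have hw := Wiebe.AcycRegular.isWeaklyRegular_reverse _ (Wiebe.Bridge.acyc_flat (B := C) f hfR)
    fun i => by rw [jacobson_eq_maximalIdeal ⊥ bot_ne_top]; exact hmem i
  have := hP.isGorensteinLocalRing_localization Q
  have hG := LCI.gorenstein_quotient_of_isWeaklyRegular C
    (List.ofFn fun i => algebraMap R C (f i)).reverse (fun x hx => by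
    obtain ⟨i, rfl⟩ := List.mem_ofFn.1 (List.mem_reverse.1 hx)
    exact hmem i) hw
  obtain ⟨hs, hk⟩ := LCIFibre.localRingHom_surjective_ker φ.toRingHom hφ q
  have hlist : Ideal.ofList (List.ofFn fun i => algebraMap R C (f i)).reverse =
      RingHom.ker (Localization.localRingHom Q q φ.toRingHom rfl) := by
    rw [hk, ← hspanC, Ideal.ofList]
    congr 1
    ext x
    simp only [List.mem_reverse, List.mem_ofFn]
    exact Iff.rfl
  exact @isGorensteinLocalRing_ringEquiv _ _ _ _
    ((Ideal.quotEquivOfEq hlist).trans (RingHom.quotientKerEquivOfSurjective hs)) hG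

end Groth.Agent.Lib.Goren.OfLCI
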