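import Groth.Agent.H25.TorLES
import Groth.Agent.Lib.LocalCoh.Away
import Groth.Agent.Lib.LCFin.Cd
import Groth.Agent.Lib.LCFin.Gorenstein
import Groth.Agent.Lib.LCFin.Annihilator
import Groth.Agent.Lib.Depth.LocalCoh
import Groth.Agent.Lib.InjHull.Basic

/-!
Tor of the residue field with the injective hull of the residue field of a Gorenstein local ring.
-/

set_option autoImplicit false
universe u

open CategoryTheory CategoryTheory.Limits MonoidalCategory RingTheory.Sequence
open Groth.Agent.Lib.LocalCoh Groth.Agent.Lib.LCFin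

namespace Groth.Agent.Lib.Goren.TorHull

variable {A : Type u} [CommRing A]

theorem smul_eq_zero_homology (P : ChainComplex (ModuleCat.{u} A) ℕ) (N : ModuleCat.{u} A) {b : A}
    (hb : ∀ x : N, b • x = 0) (n : ℕ)
    (z : (((tensorRight N).mapHomologicalComplex (ComplexShape.down ℕ)).obj P).homology n) : b • z = 0 := by
  obtain ⟨c, rfl⟩ := (ModuleCat.epi_iff_surjective _).1
    (inferInstance : Epi ((((tensorRight N).mapHomologicalComplex (ComplexShape.down ℕ)).obj P).homologyπ n)) z
  have hc : b • c = 0 := (ModuleCat.mono_iff_injective _).1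
    (inferInstance : Mono ((((tensorRight N).mapHomologicalComplex (ComplexShape.down ℕ)).obj P).iCycles n)) (by
      rw [map_zero, map_smul]
      show b • (_ : TensorProduct A (P.X n) N) = 0
      generalize ((((tensorRight N).mapHomologicalComplex (ComplexShape.down ℕ)).obj P).iCycles n).hom c = y
      induction y using TensorProduct.induction_on with
      | zero => exact smul_zero _
      | tmul p x => exact (TensorProduct.smul_tmul' b p x).trans (by rw [TensorProduct.smul_tmul, hb, TensorProduct.tmul_zero])
      | add x y hx hy => exact (smul_add b x y).trans (by rw [hx, hy]; exact add_zero 0))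
  rw [← map_smul, hc, map_zero]

theorem homologyMap_smul (P : ChainComplex (ModuleCat.{u} A) ℕ) (X : ModuleCat.{u} A) (b : A) (n : ℕ)
    (z : ((Tor.Balance.tensorCxFun P).obj X).homology n) :
    (HomologicalComplex.homologyMap ((Tor.Balance.tensorCxFun P).map (b • 𝟙 X)) n).hom z = b • z := by
  obtain ⟨c, rfl⟩ := (ModuleCat.epi_iff_surjective _).1
    (inferInstance : Epi (((Tor.Balance.tensorCxFun P).obj X).homologyπ n)) z
  have hc : (HomologicalComplex.cyclesMap ((Tor.Balance.tensorCxFun P).map (b • 𝟙 X)) n).hom c = b • c := by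
    apply (ModuleCat.mono_iff_injective _).1
      (inferInstance : Mono (((Tor.Balance.tensorCxFun P).obj X).iCycles n))
    refine (ConcreteCategory.congr_hom (HomologicalComplex.cyclesMap_i
      ((Tor.Balance.tensorCxFun P).map (b • 𝟙 X)) n) c).trans ?_
    rw [map_smul]
    show LinearMap.lTensor (P.X n) (b • 𝟙 X : X ⟶ X).hom _ = b • (_ : TensorProduct A (P.X n) X)
    generalize (((Tor.Balance.tensorCxFun P).obj X).iCycles n).hom c = y
    induction y using TensorProduct.induction_on with
    | zero => exact (map_zero _).trans (smul_zero _).symm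
    | tmul p x => exact (TensorProduct.tmul_smul b p x)
    | add x y hx hy => exact (map_add _ x y).trans ((congrArg₂ (· + ·) hx hy).trans (smul_add b x y).symm)
  refine (ConcreteCategory.congr_hom (HomologicalComplex.homologyπ_naturality
    ((Tor.Balance.tensorCxFun P).map (b • 𝟙 X)) n) c).trans ?_
  show (((Tor.Balance.tensorCxFun P).obj X).homologyπ n).hom
    ((HomologicalComplex.cyclesMap ((Tor.Balance.tensorCxFun P).map (b • 𝟙 X)) n).hom c) = _
  rw [hc, map_smul]

/-- Tor between a module killed by `b` and a module on which `b` is invertible. -/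
theorem isZero_tor_of_smul (k X : ModuleCat.{u} A) {b : A} (hk : ∀ x : k, b • x = 0)
    (hX : Function.Bijective fun x : X => b • x) (n : ℕ) : IsZero ((H25.TorLES.T k n).obj X) := by
  have h0 : ∀ z : (H25.TorLES.T k n).obj X, b • z = 0 := fun z => by
    let e := (Tor.Balance.torFlipIso k X n ≪≫ Tor.Balance.torObjIso (projectiveResolution X) k n).toLinearEquiv
    refine e.injective ?_
    rw [map_smul, map_zero]
    exact smul_eq_zero_homology _ k hk n _
  have : IsIso (b • 𝟙 X) := (ConcreteCategory.isIso_iff_bijective _).2 hX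
  let e := (asIso ((H25.TorLES.Hf k n).map (b • 𝟙 X))).toLinearEquiv
  refine (ModuleCat.isZero_iff_subsingleton).2 (subsingleton_of_forall_eq 0 fun z => ?_)
  let c := ((H25.TorLES.comparison k n).app X).toLinearEquiv
  refine c.symm.injective (e.injective ?_)
  rw [map_zero, map_zero]
  exact (homologyMap_smul _ X b n _).trans ((c.symm.map_smul b z).symm.trans
    ((congrArg c.symm (h0 z)).trans (map_zero _)))

variable [IsNoetherianRing A]

/-- Tor of a module killed by the elements with the local cohomology of a regular sequence. -/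
theorem tor_lc (k : ModuleCat.{u} A) (rs : List A) (hreg : IsWeaklyRegular A rs)
    (hk : ∀ r ∈ rs, ∀ x : k, r • x = 0) : ∀ (pre suf : List A), pre ++ suf = rs →
      (∀ n, n ≠ pre.length → IsZero ((H25.TorLES.T k n).obj
        ((localCohomology (Ideal.ofList pre) pre.length).obj (ModuleCat.of A A)))) ∧
      Nonempty ((H25.TorLES.T k pre.length).obj
        ((localCohomology (Ideal.ofList pre) pre.length).obj (ModuleCat.of A A)) ≅ k) := by
  intro pre
  induction pre using List.reverseRecOn with
  | nil =>
    intro suf _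
    let e0 : (localCohomology (Ideal.ofList ([] : List A)) 0).obj (ModuleCat.of A A) ≅ ModuleCat.of A A :=
      (lcZeroIso _).app (ModuleCat.of A A) ≪≫ (LinearEquiv.ofTop (DRing.torsionSub (Ideal.ofList ([] : List A)) A)
        (Submodule.eq_top_iff'.2 fun x => ⟨1, fun c hc => by
          rw [pow_one, Ideal.ofList_nil, Submodule.mem_bot] at hc
          rw [hc, zero_smul]⟩)).toModuleIso
    refine ⟨fun n hn => ?_, ⟨(H25.TorLES.T k 0).mapIso e0 ≪≫ (H25.TorLES.zeroIso k).app _ ≪≫
      (TensorProduct.rid A k).toModuleIso⟩⟩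
    obtain ⟨m, rfl⟩ := Nat.exists_eq_succ_of_ne_zero hn
    exact (Tor.Balance.isZero_tor_succ_of_flat_right k (ModuleCat.of A A) m).of_iso
      ((H25.TorLES.T k (m + 1)).mapIso e0)
  | append_singleton pre b ih =>
    intro suf hsuf
    obtain ⟨hzero, ⟨iso⟩⟩ := ih (b :: suf) (by rw [← hsuf, List.append_assoc]; rfl)
    have hI : Ideal.ofList (pre ++ [b]) = Ideal.ofList pre ⊔ Ideal.span {b} := by
      rw [Ideal.ofList_append, Ideal.ofList_singleton]
    rw [List.length_append, List.length_singleton, hI]
    have hreg' : IsWeaklyRegular A (pre ++ [b]) := by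
      rw [← hsuf, isWeaklyRegular_append_iff] at hreg
      exact hreg.1
    have hcd : LocCoh.CdLE A (Ideal.ofList pre) pre.length := by
      classical
      have h := Cd.cdLE_card (R := A) pre.toFinset
      rw [List.coe_toFinset] at h
      exact Cd.cdLE_mono pre.toFinset_card_le h
    set I := Ideal.ofList pre with hIdef
    obtain ⟨δ, -, hex1, hex2, hex3⟩ := exists_lc_awaySeq b I (ModuleCat.of A A)
    let f := (localCohomology I pre.length).map (awayHom b (ModuleCat.of A A))
    let g : (localCohomology I pre.length).obj (awayObj b (ModuleCat.of A A)) ⟶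
        (localCohomology (I ⊔ Ideal.span {b}) (pre.length + 1)).obj (ModuleCat.of A A) :=
      ModuleCat.ofHom (δ pre.length)
    have hS : (ShortComplex.mk f g (ModuleCat.hom_ext ((hex2 pre.length).linearMap_comp_eq_zero))).ShortExact := by
      have : Subsingleton ((localCohomology (I ⊔ Ideal.span {b}) pre.length).obj (ModuleCat.of A A)) := by
        rw [← hI]
        exact Depth.LocalCoh.subsingleton_H_of_isWeaklyRegular _ (M := ModuleCat.of A A) hreg'
          (fun r hr => Ideal.subset_span hr) (by simp)
      have hinj : Function.Injective f.hom := (injective_iff_map_eq_zero _).2 fun x hx => by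
        obtain ⟨y, rfl⟩ := (hex1 pre.length x).1 hx
        rw [Subsingleton.elim y 0, map_zero]
      have hsurj : Function.Surjective g.hom := fun y => (hex3 pre.length y).1
        ((hcd A (pre.length + 1) (Nat.lt_succ_self _)).elim _ _)
      exact { exact := (ShortComplex.moduleCat_exact_iff _).2 fun x hx => (hex2 pre.length x).1 hx
              mono_f := (ModuleCat.mono_iff_injective _).2 hinj
              epi_g := (ModuleCat.epi_iff_surjective _).2 hsurj }
    have hmid : ∀ n, IsZero ((H25.TorLES.T k n).obj ((localCohomology I pre.length).obj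
        (awayObj b (ModuleCat.of A A)))) := fun n =>
      isZero_tor_of_smul k _ (hk b (by rw [← hsuf]; simp)) (smul_bijective_lc_away (ModuleCat.of A A) pre.length) n
    have hstep : ∀ n, Nonempty ((H25.TorLES.T k (n + 1)).obj
        ((localCohomology (I ⊔ Ideal.span {b}) (pre.length + 1)).obj (ModuleCat.of A A)) ≅
        (H25.TorLES.T k n).obj ((localCohomology I pre.length).obj (ModuleCat.of A A))) := fun n => by
      haveI := H25.TorLES.mono_δ (M := k) hS n (hmid (n + 1))
      haveI : Epi (H25.TorLES.δ (M := k) hS n) :=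
        (H25.TorLES.exact₁ hS n).epi_f ((hmid n).eq_of_tgt _ _)
      haveI : IsIso (H25.TorLES.δ (M := k) hS n) := isIso_of_mono_of_epi _
      exact ⟨asIso (H25.TorLES.δ (M := k) hS n)⟩
    refine ⟨fun n hn => ?_, ?_⟩
    · cases n with
      | zero =>
        haveI := H25.TorLES.epi_zero (M := k) hS
        exact IsZero.of_epi ((H25.TorLES.T k 0).map g) (hmid 0)
      | succ n =>
        obtain ⟨e⟩ := hstep n
        exact (hzero n (by omega)).of_iso e
    · obtain ⟨e⟩ := hstep pre.length
      exact ⟨e ≪≫ iso⟩

/-- Tor of the injective hull of the residue field with the residue field. -/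
theorem main [LocCoh.IsGorensteinLocalRing A] (d : ℕ) (hd : ringKrullDim A = d) (E : Type u) [AddCommGroup E]
    [Module A E] (f : IsLocalRing.ResidueField A →ₗ[A] E) (hf : InjHull.IsInjectiveHull f) :
    (∀ i : ℕ, i ≠ d → IsZero (((Tor (ModuleCat.{u} A) i).obj (ModuleCat.of A E)).obj
        (ModuleCat.of A (IsLocalRing.ResidueField A)))) ∧
      Nonempty ((((Tor (ModuleCat.{u} A) d).obj (ModuleCat.of A E)).obj
        (ModuleCat.of A (IsLocalRing.ResidueField A))) ≅ ModuleCat.of A (IsLocalRing.ResidueField A)) := by
  haveI := Annihilator.isCohenMacaulay (R := A)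
  obtain ⟨rs, hlen, hmem, hreg⟩ :=
    (Depth.Basic.le_idealDepth_iff_of_ne_top (R := A) (M := A) (I := IsLocalRing.maximalIdeal A) (by
      rw [Ideal.smul_top_eq_map]
      simpa using (IsLocalRing.maximalIdeal.isMaximal A).ne_top) d).1 (by
      have h := hd.symm.trans (Depth.CM.ringKrullDim_eq_depth (R := A))
      have h' : ((d : ℕ∞) : WithBot ℕ∞) = ((LocCoh.depth A A : ℕ∞) : WithBot ℕ∞) := by exact_mod_cast h
      exact (WithBot.coe_injective h').le)
  have hle : Ideal.ofList rs ≤ IsLocalRing.maximalIdeal A := Ideal.span_le.2 hmem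
  have hrad : (Ideal.ofList rs).radical = (IsLocalRing.maximalIdeal A).radical := by
    have hreg' : IsRegular A rs := ⟨hreg, fun h => by
      rw [Ideal.smul_top_eq_map] at h
      simp only [Algebra.algebraMap_self, Ideal.map_id, Submodule.restrictScalars_self] at h
      exact (IsLocalRing.maximalIdeal.isMaximal A).ne_top (top_le_iff.1 (h.le.trans hle))⟩
    have hdim := ringKrullDim_add_length_eq_ringKrullDim_of_isRegular rs hreg'
    rw [hlen, hd] at hdim
    have h0 : ringKrullDim (A ⧸ Ideal.ofList rs) ≤ 0 := by
      haveI : Nontrivial (A ⧸ Ideal.ofList rs) :=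
        Ideal.Quotient.nontrivial_iff.2 (ne_top_of_le_ne_top (IsLocalRing.maximalIdeal.isMaximal A).ne_top hle)
      generalize hx : ringKrullDim (A ⧸ Ideal.ofList rs) = x at hdim ⊢
      cases x with
      | bot => exact bot_le
      | coe x =>
        have h1 : x + (d : ℕ∞) = (d : ℕ∞) := WithBot.coe_injective (by rw [WithBot.coe_add]; exact_mod_cast hdim)
        cases x with
        | top => exact absurd h1 (by simp)
        | coe x =>
          have h2 : x + d = d := by exact_mod_cast h1
          obtain rfl : x = 0 := by omega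
          exact le_rfl
    rw [(IsLocalRing.maximalIdeal.isMaximal A).isPrime.radical]
    refine le_antisymm (((IsLocalRing.maximalIdeal.isMaximal A).isPrime.radical_le_iff).2 hle) ?_
    rw [Ideal.radical_eq_sInf]
    refine le_sInf fun P ⟨hP, hPp⟩ => ?_
    haveI : Ring.KrullDimLE 0 (A ⧸ Ideal.ofList rs) := Ring.krullDimLE_iff.2 h0
    have hmax : P.IsMaximal := by
      haveI := Ideal.map_isPrime_of_surjective (f := Ideal.Quotient.mk (Ideal.ofList rs))
        Ideal.Quotient.mk_surjective (I := P) (by rw [Ideal.mk_ker]; exact hP)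
      have hm := Ideal.IsPrime.isMaximal' (R := A ⧸ Ideal.ofList rs)
        (show (P.map (Ideal.Quotient.mk (Ideal.ofList rs))).IsPrime from inferInstance)
      have := Ideal.comap_isMaximal_of_surjective (Ideal.Quotient.mk (Ideal.ofList rs))
        Ideal.Quotient.mk_surjective (K := P.map (Ideal.Quotient.mk (Ideal.ofList rs)))
      rwa [Ideal.comap_map_of_surjective _ Ideal.Quotient.mk_surjective, ← RingHom.ker_eq_comap_bot,
        Ideal.mk_ker, sup_eq_left.2 hP] at this
    exact (IsLocalRing.eq_maximalIdeal hmax).ge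
  obtain ⟨hzero, ⟨iso⟩⟩ := tor_lc (ModuleCat.of A (IsLocalRing.ResidueField A)) rs hreg
    (fun r hr x => by
      obtain ⟨y, rfl⟩ := IsLocalRing.residue_surjective (R := A) x
      show IsLocalRing.residue A r * IsLocalRing.residue A y = 0
      rw [(IsLocalRing.residue_eq_zero_iff r).2 (hmem r hr), zero_mul])
    rs [] (List.append_nil rs)
  obtain ⟨g, hg⟩ := LCFin.Gorenstein.exists_isInjectiveHull A d hd
  obtain ⟨e, -⟩ := InjHull.Basic.unique hf hg
  let eE : (localCohomology (Ideal.ofList rs) rs.length).obj (ModuleCat.of A A) ≅ ModuleCat.of A E :=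
    (localCohomology.isoOfSameRadical hrad rs.length).app _ ≪≫ eqToIso (by rw [hlen]) ≪≫ e.symm.toModuleIso
  refine ⟨fun i hi => ?_, ?_⟩
  · exact (hzero i (hlen ▸ hi)).of_iso (Tor.Balance.torFlipIso _ _ i ≪≫
      (H25.TorLES.T _ i).mapIso eE.symm)
  · subst hlen
    exact ⟨Tor.Balance.torFlipIso _ _ _ ≪≫ (H25.TorLES.T _ _).mapIso eE.symm ≪≫ iso⟩

end Groth.Agent.Lib.Goren.TorHull
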